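import Mathlib

/-! Fixed points of an element of prime order `p > 3` in transitive actions of solvable groups
generated by its conjugates: at most one third. -/

set_option autoImplicit false
set_option linter.unusedSectionVars false

namespace CfsgLib.RepFix

open Subgroup MulAction

universe u w

variable {G : Type u} [Group G] [Finite G] {p : ℕ} [hp : Fact p.Prime]

/-- The faithful primitive case. -/
theorem three_fix_le_primitive [Group.IsSolvable G] {Y : Type w} [Finite Y] [MulAction G Y]
    [FaithfulSMul G Y] [IsPretransitive G Y] (y0 : Y) (hmax : IsCoatom (stabilizer G y0)) (h3 : 3 < p)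
    {x : G} (hxp : x ^ p = 1) (hcl : normalClosure ({x} : Set G) = ⊤) (hx0 : x • y0 = y0) :
    3 * Nat.card {y : Y // x • y = y} ≤ Nat.card Y := by
  classical
  set M := stabilizer G y0 with hM
  haveI : Nontrivial G := by
    by_contra h
    rw [not_nontrivial_iff_subsingleton] at h
    exact hmax.1 (Subsingleton.elim _ _)
  obtain ⟨N, hN⟩ : ∃ N : Subgroup G, Minimal (fun N : Subgroup G => N.Normal ∧ N ≠ ⊥) N :=
    exists_minimal_of_wellFoundedLT _ ⟨⊤, inferInstance, top_ne_bot⟩
  haveI hNn : N.Normal := hN.1.1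
  have hfix : ∀ A : Subgroup G, A.Normal → A ≤ M → A = ⊥ := by
    intro A hA hle
    refine (eq_bot_iff_forall _).2 fun a ha => FaithfulSMul.eq_of_smul_eq_smul (α := Y) fun y => ?_
    obtain ⟨g, rfl⟩ := exists_smul_eq G y0 y
    have h1 : g⁻¹ * a * g ∈ M := hle (by simpa using hA.conj_mem a ha g⁻¹)
    rw [one_smul]
    calc a • g • y0 = g • (g⁻¹ * a * g) • y0 := by simp [mul_smul]
      _ = g • y0 := by rw [show (g⁻¹ * a * g) • y0 = y0 from h1]
  have hab : ∀ a ∈ N, ∀ b ∈ N, a * b = b * a := by
    have h1 := Group.IsSolvable.commutator_lt_of_ne_bot (H := N) hN.1.2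
    have h2 : ⁅N, N⁆ = ⊥ := by
      by_contra h
      exact (hN.2 ⟨inferInstance, h⟩ h1.le).not_gt h1
    intro a ha b hb
    exact mem_centralizer_iff.1 (commutator_eq_bot_iff_le_centralizer.1 h2 hb) a ha
  have hNM : ¬ N ≤ M := fun h => hN.1.2 (hfix N hNn h)
  have hsup : M ⊔ N = ⊤ := hmax.2 _ (left_lt_sup.2 hNM)
  have hinf : M ⊓ N = ⊥ := by
    refine hfix _ (normalizer_eq_top_iff.1 (top_le_iff.1 (hsup ▸ sup_le ?_ ?_))) inf_le_left
    · exact fun m hm => inf_normalizer_le_normalizer_inf
        ⟨le_normalizer hm, by rw [normalizer_eq_top]; exact mem_top _⟩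
    · exact fun n hn => centralizer_le_normalizer (_ : Set G)
        (mem_centralizer_iff.2 fun a ha => hab a ha.2 n hn)
  have hbij : Function.Bijective (fun n : N => (n : G) • y0) := by
    constructor
    · intro n n' e
      have h1 : (n' : G)⁻¹ * n ∈ M ⊓ N := by
        refine ⟨?_, N.mul_mem (N.inv_mem n'.2) n.2⟩
        show ((n' : G)⁻¹ * n) • y0 = y0
        rw [mul_smul]
        show (n' : G)⁻¹ • ((n : G) • y0) = y0
        rw [show (n : G) • y0 = (n' : G) • y0 from e, inv_smul_smul]
      rw [hinf, mem_bot, inv_mul_eq_one] at h1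
      exact Subtype.ext h1.symm
    · intro y
      obtain ⟨g, rfl⟩ := exists_smul_eq G y0 y
      have hg : g ∈ N ⊔ M := by rw [sup_comm, hsup]; exact mem_top _
      obtain ⟨n, hn, m, hm, rfl⟩ := mem_sup_of_normal_left.1 hg
      exact ⟨⟨n, hn⟩, by show n • y0 = _; rw [mul_smul, show m • y0 = y0 from hm]⟩
  set C := (centralizer ({x} : Set G)).subgroupOf N with hC
  have hfixC : ∀ n : N, x • (n : G) • y0 = (n : G) • y0 ↔ n ∈ C := by
    intro n
    rw [hC, mem_subgroupOf, mem_centralizer_singleton_iff]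
    constructor
    · intro h
      have h1 : x * n * x⁻¹ ∈ N := hNn.conj_mem _ n.2 x
      have h2 : (x * n * x⁻¹ : G) • y0 = (n : G) • y0 := by
        rw [mul_smul, mul_smul, show x⁻¹ • y0 = y0 by rw [inv_smul_eq_iff, hx0]]; exact h
      have h3 := congrArg Subtype.val (hbij.1 (a₁ := ⟨_, h1⟩) (a₂ := n) h2)
      simp only at h3
      exact (mul_inv_eq_iff_eq_mul.1 h3).symm
    · intro h
      rw [← mul_smul, ← h, mul_smul, hx0]
  have hcardY : Nat.card Y = Nat.card N := (Nat.card_congr (Equiv.ofBijective _ hbij)).symm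
  have hcardF : Nat.card {y : Y // x • y = y} = Nat.card C :=
    (Nat.card_congr ((Equiv.subtypeEquiv (Equiv.ofBijective _ hbij) fun n => (hfixC n).symm))).symm
  rw [hcardY, hcardF, ← C.card_mul_index, mul_comm 3]
  refine Nat.mul_le_mul_left _ ?_
  have hCne : C ≠ ⊤ := by
    intro e
    haveI : (centralizer (N : Set G)).Normal := inferInstance
    have hx : x ∈ centralizer (N : Set G) := mem_centralizer_iff.2 fun n hn => by
      have : (⟨n, hn⟩ : N) ∈ C := e ▸ mem_top _
      exact mem_centralizer_singleton_iff.1 this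
    have htop : centralizer (N : Set G) = ⊤ :=
      top_le_iff.1 (hcl ▸ normalClosure_le_normal (Set.singleton_subset_iff.2 hx))
    have hMn : M.Normal := normalizer_eq_top_iff.1 (top_le_iff.1 (hsup ▸ sup_le le_normalizer
      fun n hn => centralizer_le_normalizer (M : Set G) (mem_centralizer_iff.2 fun m _ =>
        (mem_centralizer_iff.1 (htop ▸ mem_top m) n hn).symm)))
    exact hmax.1 (top_le_iff.1 (hcl ▸ normalClosure_le_normal (Set.singleton_subset_iff.2 hx0)))
  have h0 : C.index ≠ 0 := index_ne_zero_of_finite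
  have h1 : C.index ≠ 1 := fun e => hCne (index_eq_one.1 e)
  by_contra hlt
  have h2 : C.index = 2 := by omega
  -- `N` is a group of prime exponent
  obtain ⟨r, hr, hrdvd⟩ := Nat.exists_prime_and_dvd
    (show Nat.card N ≠ 1 from fun e => hN.1.2 (eq_bot_of_card_eq N e))
  haveI := Fact.mk hr
  let T : Subgroup G :=
    { carrier := {n | n ∈ N ∧ n ^ r = 1}
      one_mem' := ⟨one_mem _, one_pow _⟩
      mul_mem' := fun {a b} ha hb => ⟨mul_mem ha.1 hb.1,
        by rw [(show Commute a b from hab a ha.1 b hb.1).mul_pow, ha.2, hb.2, one_mul]⟩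
      inv_mem' := fun {a} ha => ⟨inv_mem ha.1, by rw [inv_pow, ha.2, inv_one]⟩ }
  have hTn : T.Normal := ⟨fun a ha g => ⟨hNn.conj_mem a ha.1 g, by rw [conj_pow, ha.2]; group⟩⟩
  have hTne : T ≠ ⊥ := by
    obtain ⟨a, ha⟩ := exists_prime_orderOf_dvd_card' (G := N) r hrdvd
    intro e
    have h4 : (a : G) ∈ T := ⟨a.2, by rw [← coe_pow, ← ha, pow_orderOf_eq_one, coe_one]⟩
    rw [e, mem_bot, OneMemClass.coe_eq_one] at h4
    rw [h4, orderOf_one] at ha
    exact hr.one_lt.ne ha
  have hTN : N ≤ T := hN.2 ⟨hTn, hTne⟩ fun a ha => ha.1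
  have hNr : IsPGroup r N := fun a => ⟨1, Subtype.ext (by
    rw [pow_one, coe_pow]; exact (hTN a.2).2)⟩
  obtain ⟨m, hm⟩ := IsPGroup.iff_card.1 hNr
  have hr2 : r = 2 := by
    have : 2 ∣ r ^ m := hm ▸ h2 ▸ C.index_dvd_card
    exact ((Nat.prime_dvd_prime_iff_eq Nat.prime_two hr).1 (Nat.prime_two.dvd_of_dvd_pow this)).symm
  -- the points moved by `x` fall into orbits of size `p`
  have hmod : Nat.card Y ≡ Nat.card {y : Y // x • y = y} [MOD p] := by
    have hP : IsPGroup p (zpowers x) := fun g => ⟨1, by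
      obtain ⟨i, hi⟩ := mem_zpowers_iff.1 g.2
      refine Subtype.ext ?_
      rw [pow_one, coe_pow, ← hi, ← zpow_natCast, ← zpow_mul, mul_comm, zpow_mul, zpow_natCast, hxp,
        one_zpow, coe_one]⟩
    refine (hP.card_modEq_card_fixedPoints Y).trans ?_
    refine congrArg (· % p) ?_
    exact Nat.card_congr (Equiv.subtypeEquivRight fun y => ⟨fun h => h ⟨x, mem_zpowers x⟩,
      fun h g => by
        obtain ⟨i, hi⟩ := mem_zpowers_iff.1 g.2
        show (g : G) • y = y
        have h7 : x ^ i ∈ stabilizer G y := zpow_mem (show x ∈ stabilizer G y from h) i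
        rw [← hi]; exact h7⟩)
  rw [hcardY, hcardF, ← C.card_mul_index, h2, mul_two, Nat.ModEq.comm] at hmod
  have h5 : p ∣ Nat.card C := by
    rw [Nat.modEq_iff_dvd' (Nat.le_add_left _ _)] at hmod
    simpa using hmod
  have h6 : p ∣ r ^ m := hm ▸ h5.trans (card_subgroup_dvd_card C)
  have := (Nat.prime_dvd_prime_iff_eq hp.out hr).1 (hp.out.dvd_of_dvd_pow h6)
  omega

/-- In a nontrivial transitive action at most one third of the points are fixed. -/
theorem three_fix_le [Group.IsSolvable G] {Ω : Type w} [Finite Ω] [MulAction G Ω]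
    [IsPretransitive G Ω] [Nontrivial Ω] (h3 : 3 < p) {x : G} (hxp : x ^ p = 1)
    (hcl : normalClosure ({x} : Set G) = ⊤) :
    3 * Nat.card {y : Ω // x • y = y} ≤ Nat.card Ω := by
  classical
  by_cases hf : ∃ y : Ω, x • y = y
  · obtain ⟨y0, hy0⟩ := hf
    have hne : stabilizer G y0 ≠ ⊤ := by
      intro e
      obtain ⟨y, hy⟩ := exists_ne y0
      obtain ⟨g, hg⟩ := exists_smul_eq G y0 y
      exact hy (hg ▸ (show g ∈ stabilizer G y0 from e ▸ mem_top g))
    obtain ⟨M, hMmax, hHM⟩ := (eq_top_or_exists_le_coatom (stabilizer G y0)).resolve_left hne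
    have hxM : x ∈ M := hHM hy0
    -- the faithful action on `G/M`
    let φ := MulAction.toPermHom G (G ⧸ M)
    haveI : IsPretransitive φ.range (G ⧸ M) := ⟨fun a b => by
      obtain ⟨g, hg⟩ := exists_smul_eq G a b
      exact ⟨⟨φ g, g, rfl⟩, hg⟩⟩
    have hM' : stabilizer φ.range ((1 : G) : G ⧸ M) = M.map φ.rangeRestrict := by
      ext q
      obtain ⟨g, rfl⟩ := φ.rangeRestrict_surjective q
      rw [mem_stabilizer_iff]
      show φ g ((1 : G) : G ⧸ M) = _ ↔ _
      rw [show φ g ((1 : G) : G ⧸ M) = ((g : G) : G ⧸ M) by simp [φ, MulAction.toPerm_apply]]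
      constructor
      · intro h
        exact mem_map_of_mem _ (by simpa using QuotientGroup.eq.1 h.symm)
      · rintro ⟨m, hm, e⟩
        have h1 := congrArg (fun f : φ.range => (f : Equiv.Perm (G ⧸ M)) ((1 : G) : G ⧸ M)) e
        simp only [φ, MonoidHom.coe_rangeRestrict, MulAction.toPermHom_apply, MulAction.toPerm_apply,
          MulAction.Quotient.smul_coe, smul_eq_mul, mul_one] at h1
        rw [← h1, QuotientGroup.eq]
        simpa using hm
    have hker : φ.rangeRestrict.ker ≤ M := by
      intro g hg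
      rw [MonoidHom.ker_rangeRestrict, MonoidHom.mem_ker] at hg
      have := congrArg (fun f : Equiv.Perm (G ⧸ M) => f ((1 : G) : G ⧸ M)) hg
      simp only [φ, MulAction.toPermHom_apply, MulAction.toPerm_apply, MulAction.Quotient.smul_coe,
        smul_eq_mul, mul_one, Equiv.Perm.one_apply] at this
      simpa using QuotientGroup.eq.1 this.symm
    haveI : Group.IsSolvable φ.range := solvable_of_surjective φ.rangeRestrict_surjective
    have hcomap : (M.map φ.rangeRestrict).comap φ.rangeRestrict = M := by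
      rw [comap_map_eq, sup_eq_left.2 hker]
    have hmax' : IsCoatom (stabilizer φ.range ((1 : G) : G ⧸ M)) := by
      rw [hM']
      refine ⟨fun e => hMmax.1 (by rw [← hcomap, e, comap_top]), fun T hT => ?_⟩
      have h1 : M < T.comap φ.rangeRestrict := by
        refine lt_of_eq_of_lt hcomap.symm ?_; exact (comap_lt_comap_of_surjective φ.rangeRestrict_surjective).2 hT
      rw [← map_comap_eq_self_of_surjective φ.rangeRestrict_surjective T, hMmax.2 _ h1,
        map_top_of_surjective _ φ.rangeRestrict_surjective]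
    have hprim := three_fix_le_primitive (p := p) (G := φ.range) ((1 : G) : G ⧸ M) hmax' h3
      (x := φ.rangeRestrict x) (by rw [← map_pow, hxp, map_one])
      (by rw [← Set.image_singleton, ← map_normalClosure _ _ φ.rangeRestrict_surjective, hcl,
        map_top_of_surjective _ φ.rangeRestrict_surjective])
      (by show _ ∈ stabilizer φ.range ((1 : G) : G ⧸ M); rw [hM']; exact mem_map_of_mem _ hxM)
    -- the fibres of `Ω → G/M`
    choose s hs using fun y : Ω => exists_smul_eq G y0 y
    let q : Ω → G ⧸ M := fun y => (s y : G ⧸ M)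
    have hq : ∀ (g : G) (y : Ω), q (g • y) = g • q y := by
      intro g y
      show ((s (g • y) : G) : G ⧸ M) = ((g * s y : G) : G ⧸ M)
      refine QuotientGroup.eq.2 (hHM ?_)
      show ((s (g • y))⁻¹ * (g * s y)) • y0 = y0
      rw [mul_smul, mul_smul, hs, inv_smul_eq_iff, hs]
    have hfib : ∀ a b : G ⧸ M, Nat.card {y : Ω // q y = a} = Nat.card {y : Ω // q y = b} := by
      intro a b
      obtain ⟨g, hg⟩ := exists_smul_eq G a b
      exact Nat.card_congr ((MulAction.toPerm g).subtypeEquiv fun y => by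
        rw [MulAction.toPerm_apply, hq, ← hg, smul_left_cancel_iff])
    haveI := Fintype.ofFinite (G ⧸ M)
    haveI := Fintype.ofFinite Ω
    set b := Nat.card {y : Ω // q y = ((1 : G) : G ⧸ M)} with hb
    have hΩ : Nat.card Ω = Nat.card (G ⧸ M) * b := by
      rw [← Nat.card_congr (Equiv.sigmaFiberEquiv q), Nat.card_sigma,
        Finset.sum_congr rfl fun a _ => hfib a ((1 : G) : G ⧸ M), Finset.sum_const, Finset.card_univ,
        smul_eq_mul, ← Nat.card_eq_fintype_card]
    have hF : Nat.card {y : Ω // x • y = y} ≤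
        Nat.card {a : G ⧸ M // φ.rangeRestrict x • a = a} * b := by
      have h1 : Nat.card {y : Ω // x • y = y} ≤ Nat.card {y : Ω // x • q y = q y} :=
        Nat.card_le_card_of_injective (fun y => ⟨y.1, by rw [← hq, y.2]⟩)
          fun y y' e => by simpa [Subtype.ext_iff] using e
      refine h1.trans (le_of_eq ?_)
      rw [← Nat.card_congr (Equiv.sigmaSubtypeFiberEquivSubtype q
        (p := fun y => x • q y = q y) (q := fun a => φ.rangeRestrict x • a = a) fun y => Iff.rfl),
        Nat.card_sigma]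
      rw [Finset.sum_congr rfl fun (a : {a : G ⧸ M // φ.rangeRestrict x • a = a}) _ =>
        hfib a ((1 : G) : G ⧸ M), Finset.sum_const, Finset.card_univ, smul_eq_mul,
        ← Nat.card_eq_fintype_card]
    rw [hΩ]
    calc 3 * Nat.card {y : Ω // x • y = y}
        ≤ 3 * (Nat.card {a : G ⧸ M // φ.rangeRestrict x • a = a} * b) := Nat.mul_le_mul_left _ hF
      _ ≤ Nat.card (G ⧸ M) * b := by rw [← mul_assoc]; exact Nat.mul_le_mul_right _ hprim
  · haveI : IsEmpty {y : Ω // x • y = y} := ⟨fun y => hf ⟨y.1, y.2⟩⟩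
    simp

end CfsgLib.RepFix
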