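import Mathlib

/-! Orbit representatives of a permutation of prime order, and injectivity on representatives. -/

set_option autoImplicit false

namespace CfsgLib.RepFix

/-- A permutation `σ` with `σ ^ p = 1` has a set of orbit representatives of size
`(|Ω| + (p - 1) |Fix|) / p`. -/
theorem exists_reps {Ω : Type*} [Finite Ω] {p : ℕ} (hp : p.Prime) (σ : Equiv.Perm Ω) (hσ : σ ^ p = 1) :
    ∃ R : Finset Ω, (∀ w, ∃ r ∈ R, ∃ i : ℕ, w = (σ ^ i) r) ∧
      p * R.card = Nat.card Ω + (p - 1) * Nat.card {w : Ω // σ w = w} := by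
  classical
  haveI := Fintype.ofFinite Ω
  let C : Ω → Finset Ω := fun w => (Finset.range p).image fun i => (σ ^ i) w
  have hmod : ∀ i : ℕ, σ ^ i = σ ^ (i % p) := fun i => pow_eq_pow_mod i hσ
  have hmem : ∀ w v, v ∈ C w ↔ ∃ i : ℕ, v = (σ ^ i) w := by
    intro w v
    simp only [C, Finset.mem_image, Finset.mem_range]
    exact ⟨fun ⟨i, _, e⟩ => ⟨i, e.symm⟩,
      fun ⟨i, e⟩ => ⟨i % p, Nat.mod_lt _ hp.pos, by rw [e, hmod i]⟩⟩
  have heq : ∀ w v, v ∈ C w → C v = C w := by
    intro w v hv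
    obtain ⟨i, rfl⟩ := (hmem _ _).1 hv
    refine Finset.ext fun u => ?_
    rw [hmem, hmem]
    constructor
    · rintro ⟨j, rfl⟩; exact ⟨j + i, by rw [pow_add, Equiv.Perm.mul_apply]⟩
    · rintro ⟨j, rfl⟩
      refine ⟨j + (p - i % p), ?_⟩
      rw [hmod i, pow_add, Equiv.Perm.mul_apply, ← Equiv.Perm.mul_apply (σ ^ (p - i % p)), ← pow_add,
        Nat.sub_add_cancel (Nat.mod_lt _ hp.pos).le, hσ, Equiv.Perm.one_apply]
  have hcard : ∀ w, (C w).card = if σ w = w then 1 else p := by
    intro w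
    split_ifs with h
    · rw [Finset.card_eq_one]
      refine ⟨w, Finset.eq_singleton_iff_unique_mem.2 ⟨(hmem _ _).2 ⟨0, rfl⟩, fun v hv => ?_⟩⟩
      obtain ⟨i, rfl⟩ := (hmem _ _).1 hv
      induction i with
      | zero => rfl
      | succ i ih => rw [pow_succ, Equiv.Perm.mul_apply, h]; exact ih ((hmem _ _).2 ⟨i, rfl⟩)
    · have hmp : Function.minimalPeriod σ w = p := by
        rcases (Nat.dvd_prime hp).1 (Function.IsPeriodicPt.minimalPeriod_dvd (n := p) (f := σ) (x := w)
          (by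
            show (σ^[p]) w = w
            rw [← Equiv.Perm.coe_pow, hσ]; rfl)) with h1 | h1
        · exact absurd (Function.minimalPeriod_eq_one_iff_isFixedPt.1 h1) h
        · exact h1
      rw [Finset.card_image_of_injOn, Finset.card_range]
      intro i hi j hj e
      simp only [Equiv.Perm.coe_pow] at e
      exact Function.iterate_injOn_Iio_minimalPeriod (by rw [hmp]; simpa using hi)
        (by rw [hmp]; simpa using hj) e
  let Os := Finset.univ.image C
  have hne : ∀ O : Os, ∃ w, C w = (O : Finset Ω) := fun O => by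
    obtain ⟨w, -, e⟩ := Finset.mem_image.1 O.2
    exact ⟨w, e⟩
  choose rep hrep using hne
  refine ⟨Finset.univ.image rep, fun w => ?_, ?_⟩
  · let O : Os := ⟨C w, Finset.mem_image.2 ⟨w, Finset.mem_univ _, rfl⟩⟩
    refine ⟨rep O, Finset.mem_image.2 ⟨O, Finset.mem_univ _, rfl⟩, ?_⟩
    have : w ∈ C (rep O) := by rw [hrep O]; exact (hmem _ _).2 ⟨0, rfl⟩
    exact (hmem _ _).1 this
  rw [Finset.card_image_of_injective _ fun O O' e => Subtype.ext (by rw [← hrep O, ← hrep O', e]),
    Finset.card_univ, Fintype.card_coe, Nat.card_eq_fintype_card, Nat.card_eq_fintype_card,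
    Fintype.card_subtype, ← Finset.card_univ]
  have hfib : ∀ O ∈ Os, p = ∑ w ∈ O, (if σ w = w then p else 1) := by
    intro O hO
    obtain ⟨w, -, rfl⟩ := Finset.mem_image.1 hO
    by_cases h : σ w = w
    · have h1 := hcard w
      rw [if_pos h, Finset.card_eq_one] at h1
      obtain ⟨v, hv⟩ := h1
      have hwv : w = v := by simpa [hv] using (hmem w w).2 ⟨0, rfl⟩
      rw [hv, Finset.sum_singleton, ← hwv, if_pos h]
    · rw [Finset.sum_congr rfl fun v hv => if_neg (fun hv' => h ?_), Finset.sum_const, hcard w,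
        if_neg h, smul_eq_mul, mul_one]
      obtain ⟨i, rfl⟩ := (hmem _ _).1 hv
      rw [← Equiv.Perm.mul_apply, ← pow_succ', pow_succ, Equiv.Perm.mul_apply] at hv'
      exact (σ ^ i).injective hv'
  calc p * Os.card = ∑ O ∈ Os, p := by rw [Finset.sum_const, smul_eq_mul, mul_comm]
    _ = ∑ O ∈ Os, ∑ w ∈ O, (if σ w = w then p else 1) := Finset.sum_congr rfl hfib
    _ = ∑ w, (if σ w = w then p else 1) := by
      have hfb : ∀ O ∈ Os, Finset.univ.filter (fun w => C w = O) = O := by
        intro O hO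
        obtain ⟨w, -, rfl⟩ := Finset.mem_image.1 hO
        ext v
        simp only [Finset.mem_filter, Finset.mem_univ, true_and]
        exact ⟨fun e => e ▸ (hmem _ _).2 ⟨0, rfl⟩, heq w v⟩
      rw [← Finset.sum_fiberwise_of_maps_to (g := C) (t := Os)
        (fun w _ => Finset.mem_image.2 ⟨w, Finset.mem_univ _, rfl⟩)]
      exact Finset.sum_congr rfl fun O hO => by rw [hfb O hO]
    _ = _ := by
      rw [Finset.sum_ite, Finset.sum_const, Finset.sum_const, smul_eq_mul, smul_eq_mul, mul_one]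
      have h1 := Finset.card_filter_add_card_filter_not (s := (Finset.univ : Finset Ω))
        (fun w => σ w = w)
      obtain ⟨p', rfl⟩ := Nat.exists_eq_add_of_le hp.pos
      simp only [Nat.zero_add, Nat.succ_eq_add_one, Nat.add_sub_cancel_left] at *
      rw [← h1]; ring

/-- A family permuted by a map with fixed point `f` is determined by its values on representatives. -/
theorem eq_zero_of_reps {Ω : Type*} {M : Type*} [Zero M] (σ : Equiv.Perm Ω) (T : M → M) (hT : T 0 = 0)
    (f : Ω → M) (hf : ∀ w, f (σ w) = T (f w)) {R : Finset Ω}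
    (hR : ∀ w, ∃ r ∈ R, ∃ i : ℕ, w = (σ ^ i) r) (h0 : ∀ r ∈ R, f r = 0) (w : Ω) : f w = 0 := by
  obtain ⟨r, hr, i, rfl⟩ := hR w
  induction i with
  | zero => exact h0 r hr
  | succ i ih => rw [pow_succ', Equiv.Perm.mul_apply, hf, ih, hT]

end CfsgLib.RepFix
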