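import Mathlib
import Cfsg.Agent.Lib.RepFix.Orbit
import Cfsg.Agent.Lib.RepFix.Fix

/-! The fixed space of an element of prime order `p > 3` when an abelian normal subgroup is not central. -/

set_option autoImplicit false
set_option linter.unusedSectionVars false

namespace CfsgLib.RepFix

universe u v w

variable {G : Type u} [Group G] [Finite G] {k : Type v} [Field k] {V : Type w} [AddCommGroup V]
  [Module k V] [FiniteDimensional k V] {p : ℕ} [hp : Fact p.Prime]

/-- The bound, given a bound on the fixed points of `x` on the homogeneous blocks of `B`. -/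
theorem abelian_bound_of (ρ : G →* Module.End k V) (hinj : Function.Injective ρ)
    (hirr : ∀ S : Submodule k V, (∀ g, ∀ v ∈ S, ρ g v ∈ S) → S = ⊥ ∨ S = ⊤)
    (B : Subgroup G) [hBn : B.Normal] (hab : ∀ a ∈ B, ∀ b ∈ B, a * b = b * a)
    (hp2 : p ≠ 2) (x : G) (hxp : x ^ p = 1)
    (hnum : ∀ (Ω : Type w) [Finite Ω] [MulAction G Ω] [MulAction.IsPretransitive G Ω] [Nontrivial Ω],
      (∀ g ∈ B, ∀ y : Ω, g • y = y) →
        2 * (Nat.card Ω + (p - 1) * Nat.card {y : Ω // x • y = y}) < p * Nat.card Ω)
    {b : G} (hbB : b ∈ B) (hbx : x * b ≠ b * x) :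
    2 * Module.finrank k (LinearMap.ker (ρ x - 1)) < Module.finrank k V := by
  classical
  have hgi : ∀ g : G, ρ g * ρ g⁻¹ = 1 := fun g => by rw [← map_mul, mul_inv_cancel, map_one]
  have hig : ∀ g : G, ρ g⁻¹ * ρ g = 1 := fun g => by rw [← map_mul, inv_mul_cancel, map_one]
  have hgiv : ∀ (g : G) (v : V), ρ g (ρ g⁻¹ v) = v := fun g v => LinearMap.congr_fun (hgi g) v
  have higv : ∀ (g : G) (v : V), ρ g⁻¹ (ρ g v) = v := fun g v => LinearMap.congr_fun (hig g) v
  have hnt : Nontrivial V := by
    by_contra h
    rw [not_nontrivial_iff_subsingleton] at h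
    exact hbx (hinj (LinearMap.ext fun v => Subsingleton.elim _ _))
  let A : Subalgebra k (Module.End k V) := Algebra.adjoin k (ρ '' (B : Set G))
  have hcommA : ∀ a ∈ A, ∀ a' ∈ A, a * a' = a' * a := by
    have h1 : ∀ a' ∈ A, ∀ g ∈ B, ρ g * a' = a' * ρ g := by
      intro a' ha' g hg
      induction ha' using Algebra.adjoin_induction with
      | mem y hy => obtain ⟨g', hg', rfl⟩ := hy; rw [← map_mul, ← map_mul, hab g hg g' hg']
      | algebraMap c => exact (Algebra.commutes c _).symm
      | add y z _ _ hy hz => rw [mul_add, add_mul, hy, hz]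
      | mul y z _ _ hy hz => rw [← mul_assoc, hy, mul_assoc, hz, mul_assoc]
    intro a ha a' ha'
    induction ha using Algebra.adjoin_induction with
    | mem y hy => obtain ⟨g, hg, rfl⟩ := hy; exact h1 a' ha' g hg
    | algebraMap c => exact Algebra.commutes c _
    | add y z _ _ hy hz => rw [mul_add, add_mul, hy, hz]
    | mul y z _ _ hy hz => rw [mul_assoc, hz, ← mul_assoc, hy, mul_assoc]
  have hconj : ∀ (g : G), ∀ a ∈ A, ρ g * a * ρ g⁻¹ ∈ A := by
    intro g a ha
    induction ha using Algebra.adjoin_induction with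
    | mem y hy =>
      obtain ⟨g', hg', rfl⟩ := hy
      rw [← map_mul, ← map_mul]
      exact Algebra.subset_adjoin ⟨_, hBn.conj_mem g' hg' g, rfl⟩
    | algebraMap c =>
      rw [← Algebra.commutes, mul_assoc, hgi, mul_one]
      exact A.algebraMap_mem c
    | add y z _ _ hy hz => rw [mul_add, add_mul]; exact add_mem hy hz
    | mul y z _ _ hy hz =>
      have : ρ g * (y * z) * ρ g⁻¹ = (ρ g * y * ρ g⁻¹) * (ρ g * z * ρ g⁻¹) := by
        calc ρ g * (y * z) * ρ g⁻¹ = ρ g * y * 1 * z * ρ g⁻¹ := by simp [mul_assoc]
          _ = ρ g * y * (ρ g⁻¹ * ρ g) * z * ρ g⁻¹ := by rw [hig]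
          _ = _ := by simp only [mul_assoc]
      rw [this]; exact mul_mem hy hz
  have hCfix : ∀ v, v ∈ LinearMap.ker (ρ x - 1) ↔ ρ x v = v := fun v => by
    rw [LinearMap.mem_ker, LinearMap.sub_apply, sub_eq_zero]; rfl
  by_cases hdom : ∀ a ∈ A, a ≠ 0 → Function.Injective a
  · -- `A` is a field on which `x` acts nontrivially
    let e : ℕ → Module.End k V := fun i => ρ (x ^ i * b * (x ^ i)⁻¹)
    have heA : ∀ i, e i ∈ A := fun i => Algebra.subset_adjoin ⟨_, hBn.conj_mem b hbB _, rfl⟩
    have hxe : ∀ i v, ρ x (e i v) = e (i + 1) (ρ x v) := by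
      intro i v
      show (ρ x * e i) v = (e (i + 1) * ρ x) v
      have h1 : x * (x ^ i * b * (x ^ i)⁻¹) = x ^ (i + 1) * b * (x ^ (i + 1))⁻¹ * x := by
        rw [pow_succ' x i]; group
      simp only [e, ← map_mul, h1]
    have h01 : e 0 ≠ e 1 := fun h => hbx (by
      have h1 := hinj h
      simp only [pow_zero, pow_one, one_mul, inv_one, mul_one] at h1
      exact (eq_mul_inv_iff_mul_eq.1 h1).symm)
    have h02 : e 0 ≠ e 2 := fun h => hbx (by
      have h1 := hinj h
      simp only [pow_zero, one_mul, inv_one, mul_one] at h1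
      have h2 : Commute (x ^ 2) b := (eq_mul_inv_iff_mul_eq.1 h1).symm
      obtain ⟨j, hj⟩ := hp.out.odd_of_ne_two hp2
      have h4 := h2.pow_left (j + 1)
      rwa [← pow_mul, show 2 * (j + 1) = p + 1 by omega, pow_succ, hxp, one_mul] at h4)
    have h12 : e 1 ≠ e 2 := by
      intro h
      refine h01 (LinearMap.ext fun v => (Function.Injective.eq_iff
        (fun a c hac => by simpa [higv] using congrArg (ρ x⁻¹) hac : Function.Injective (ρ x))).1 ?_)
      rw [hxe, hxe, h]
    have hC3 : 3 * Module.finrank k (LinearMap.ker (ρ x - 1)) ≤ Module.finrank k V := by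
      set C := LinearMap.ker (ρ x - 1) with hC
      let Φ : C × C × C →ₗ[k] V :=
        (C.subtype).coprod (((e 0).comp C.subtype).coprod (((e 0).comp (e 0)).comp C.subtype))
      have hΦ : Function.Injective Φ := by
        refine (injective_iff_map_eq_zero Φ).2 ?_
        rintro ⟨⟨c0, h0⟩, ⟨c1, h1⟩, ⟨c2, h2⟩⟩ h
        have f0 := (hCfix c0).1 h0
        have f1 := (hCfix c1).1 h1
        have f2 := (hCfix c2).1 h2
        have q0 : c0 + (e 0 c1 + e 0 (e 0 c2)) = 0 := h
        have q1 : c0 + (e 1 c1 + e 1 (e 1 c2)) = 0 := by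
          simpa [map_add, hxe, f0, f1, f2] using congrArg (ρ x) q0
        have q2 : c0 + (e 2 c1 + e 2 (e 2 c2)) = 0 := by
          simpa [map_add, hxe, f0, f1, f2] using congrArg (ρ x) q1
        have hsub : ∀ i, e 0 ≠ e i → c0 + (e i c1 + e i (e i c2)) = 0 → c1 + (e 0 c2 + e i c2) = 0 := by
          intro i hne q
          refine hdom _ (sub_mem (heA 0) (heA i)) (sub_ne_zero.2 hne) ?_
          rw [map_zero]
          have hc : e 0 (e i c2) = e i (e 0 c2) :=
            LinearMap.congr_fun (hcommA _ (heA 0) _ (heA i)) c2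
          simp only [LinearMap.sub_apply, map_add, hc]
          rw [← sub_self (c0 + (e 0 c1 + e 0 (e 0 c2)))]
          conv_rhs => arg 2; rw [q0, ← q]
          abel
        have r1 := hsub 1 h01 q1
        have r2 := hsub 2 h02 q2
        have hc2 : c2 = 0 := by
          refine hdom _ (sub_mem (heA 1) (heA 2)) (sub_ne_zero.2 h12) ?_
          rw [map_zero, LinearMap.sub_apply, ← sub_self (c1 + (e 0 c2 + e 1 c2))]
          conv_rhs => arg 2; rw [r1, ← r2]
          abel
        subst hc2
        have hc1 : c1 = 0 := by simpa using r1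
        subst hc1
        have hc0 : c0 = 0 := by simpa using q0
        subst hc0
        rfl
      have := LinearMap.finrank_le_finrank_of_injective hΦ
      rw [Module.finrank_prod, Module.finrank_prod] at this
      omega
    have : 0 < Module.finrank k V := Module.finrank_pos
    omega
  · push Not at hdom
    obtain ⟨a0, ha0, ha0ne, ha0inj⟩ := hdom
    letI : CommRing A := { (inferInstance : Ring A) with
      mul_comm := fun a c => Subtype.ext (hcommA a.1 a.2 c.1 c.2) }
    let cA : G → A →+* A := fun g =>
      { toFun := fun a => ⟨ρ g * a.1 * ρ g⁻¹, hconj g a.1 a.2⟩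
        map_one' := Subtype.ext (by show ρ g * 1 * ρ g⁻¹ = 1; rw [mul_one, hgi])
        map_mul' := fun a c => Subtype.ext (by
          show ρ g * (a.1 * c.1) * ρ g⁻¹ = (ρ g * a.1 * ρ g⁻¹) * (ρ g * c.1 * ρ g⁻¹)
          calc ρ g * (a.1 * c.1) * ρ g⁻¹ = ρ g * a.1 * 1 * c.1 * ρ g⁻¹ := by simp [mul_assoc]
            _ = ρ g * a.1 * (ρ g⁻¹ * ρ g) * c.1 * ρ g⁻¹ := by rw [hig]
            _ = _ := by simp only [mul_assoc])
        map_zero' := Subtype.ext (by show ρ g * 0 * ρ g⁻¹ = 0; rw [mul_zero, zero_mul])
        map_add' := fun a c => Subtype.ext (by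
          show ρ g * (a.1 + c.1) * ρ g⁻¹ = ρ g * a.1 * ρ g⁻¹ + ρ g * c.1 * ρ g⁻¹
          rw [mul_add, add_mul]) }
    have hcA : ∀ g a, ((cA g a : A) : Module.End k V) = ρ g * a.1 * ρ g⁻¹ := fun g a => rfl
    have hcAmul : ∀ g g' a, cA (g * g') a = cA g (cA g' a) := fun g g' a => Subtype.ext (by
      simp only [hcA, mul_inv_rev, map_mul, mul_assoc])
    have hcA1 : ∀ a, cA 1 a = a := fun a => Subtype.ext (by simp [hcA])
    have hcAinj : ∀ g, Function.Injective (cA g) := fun g a c e => by
      rw [← hcA1 a, ← hcA1 c, ← inv_mul_cancel g, hcAmul, hcAmul, e]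
    have hredA : IsReduced A := by
      let K : Submodule k V := ⨅ n : {n : A // IsNilpotent n}, LinearMap.ker (n.1 : Module.End k V)
      have hKinv : ∀ g, ∀ v ∈ K, ρ g v ∈ K := by
        intro g v hv
        simp only [K, Submodule.mem_iInf, LinearMap.mem_ker] at hv ⊢
        intro n
        have h1 := hv ⟨cA g⁻¹ n.1, n.2.map (cA g⁻¹)⟩
        have h2 : ρ g⁻¹ ((n.1 : Module.End k V) (ρ g v)) = 0 := by
          rw [hcA, inv_inv] at h1; exact h1
        simpa [hgiv] using congrArg (ρ g) h2
      have hKne : K ≠ ⊥ := by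
        obtain ⟨v0, hv0⟩ := exists_ne (0 : V)
        let orb : V → Submodule k V := fun v =>
          Submodule.map (LinearMap.applyₗ v : Module.End k V →ₗ[k] V) (Subalgebra.toSubmodule A)
        obtain ⟨m, ⟨v, hv, rfl⟩, hmin⟩ := (wellFounded_lt (α := Submodule k V)).has_min
          {S | ∃ v : V, v ≠ 0 ∧ orb v = S} ⟨_, v0, hv0, rfl⟩
        intro hK
        refine hv ((Submodule.eq_bot_iff _).1 hK v ?_)
        simp only [K, Submodule.mem_iInf, LinearMap.mem_ker]
        intro n
        by_contra hne
        have hle : orb ((n.1 : Module.End k V) v) ≤ orb v := by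
          rintro _ ⟨a, ha, rfl⟩
          exact ⟨a * n.1.1, A.mul_mem ha n.1.2, rfl⟩
        have heq := eq_of_le_of_not_lt hle (hmin _ ⟨_, hne, rfl⟩)
        have hvmem : v ∈ orb ((n.1 : Module.End k V) v) := by
          rw [heq]; exact ⟨1, A.one_mem, rfl⟩
        obtain ⟨a, ha, hav⟩ := hvmem
        have hfix : ((⟨a, ha⟩ * n.1 : A) : Module.End k V) v = v := hav
        obtain ⟨m, hm⟩ := (Commute.all (⟨a, ha⟩ : A) n.1).isNilpotent_mul_left n.2
        refine hv ?_
        have hpow : ∀ j, ((⟨a, ha⟩ * n.1 : A) ^ j : A).1 v = v := by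
          intro j
          induction j with
          | zero => rfl
          | succ j ih =>
            rw [pow_succ]
            show ((⟨a, ha⟩ * n.1 : A) ^ j : A).1 (((⟨a, ha⟩ * n.1 : A) : Module.End k V) v) = v
            rw [hfix, ih]
        have := hpow m
        rw [hm] at this
        exact this.symm
      have hKtop := (hirr K hKinv).resolve_left hKne
      refine ⟨fun n hn => Subtype.ext (LinearMap.ext fun v => ?_)⟩
      have hv : v ∈ K := hKtop ▸ Submodule.mem_top
      simp only [K, Submodule.mem_iInf, LinearMap.mem_ker] at hv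
      exact hv ⟨n, hn⟩
    haveI := hredA
    haveI : IsArtinianRing A := IsArtinianRing.of_finite k A
    haveI := Fintype.ofFinite (MaximalSpectrum A)
    let P := IsArtinianRing.equivPi A
    let e : MaximalSpectrum A → A := fun m => P.symm (Pi.single m 1)
    have hPe : ∀ m, P (e m) = Pi.single m 1 := fun m => P.apply_symm_apply _
    have hidem : ∀ m, e m * e m = e m := fun m => P.injective (by
      rw [map_mul, hPe, ← Pi.single_mul, one_mul])
    have horth : ∀ m m', m ≠ m' → e m * e m' = 0 := fun m m' hne => P.injective (by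
      rw [map_mul, hPe, hPe, map_zero]
      funext i
      by_cases hi : i = m
      · subst hi; simp [Pi.single_eq_of_ne hne]
      · simp [Pi.single_eq_of_ne hi])
    have hene : ∀ m, e m ≠ 0 := fun m h => by
      have h1 := congrFun (congrArg P h) m
      rw [hPe, Pi.single_eq_same, map_zero, Pi.zero_apply] at h1
      haveI := m.isMaximal
      exact one_ne_zero h1
    have hsum : ∑ m, e m = 1 := P.injective (by
      rw [map_sum, map_one]; simp only [hPe]; exact Finset.univ_sum_single _)
    have hatom : ∀ m h, h * h = h → h * e m = h → h ≠ 0 → h = e m := by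
      intro m h hh hm hne
      refine P.injective (funext fun i => ?_)
      have h1 := congrFun (congrArg P hm) i
      rw [map_mul, hPe, Pi.mul_apply] at h1
      by_cases hi : i = m
      · subst hi
        rw [hPe, Pi.single_eq_same]
        haveI := i.isMaximal
        haveI : IsDomain (A ⧸ i.asIdeal) := Ideal.Quotient.isDomain _
        have h2 : P h i * P h i = P h i := by rw [← Pi.mul_apply, ← map_mul, hh]
        by_cases h0 : P h i = 0
        · exfalso
          refine hne (P.injective (funext fun j => ?_))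
          rw [map_zero, Pi.zero_apply]
          have h3 := congrFun (congrArg P hm) j
          rw [map_mul, hPe, Pi.mul_apply] at h3
          by_cases hj : j = i
          · subst hj; exact h0
          · rw [Pi.single_eq_of_ne hj, mul_zero] at h3; exact h3.symm
        · exact (mul_eq_left₀ h0).1 h2
      · rw [hPe, Pi.single_eq_of_ne hi]
        rw [Pi.single_eq_of_ne hi, mul_zero] at h1; exact h1.symm
    have heinj : Function.Injective e := fun m m' h => by
      by_contra hne
      have := horth m m' hne
      rw [← h, hidem] at this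
      exact hene m this
    have hperm : ∀ g m, ∃ m', e m' = cA g (e m) := by
      intro g m
      have hfne : cA g (e m) ≠ 0 := fun h => hene m (hcAinj g (h.trans (map_zero _).symm))
      have hex : ∃ m', cA g (e m) * e m' ≠ 0 := by
        by_contra! hall
        apply hfne
        rw [← mul_one (cA g (e m)), ← hsum, Finset.mul_sum]
        exact Finset.sum_eq_zero fun m' _ => hall m'
      obtain ⟨m', hm'⟩ := hex
      refine ⟨m', ?_⟩
      have hff : cA g (e m) * cA g (e m) = cA g (e m) := by rw [← map_mul, hidem]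
      have hidem' : (cA g (e m) * e m') * (cA g (e m) * e m') = cA g (e m) * e m' := by
        rw [mul_mul_mul_comm, hff, hidem]
      have h1 : cA g⁻¹ (cA g (e m) * e m') = e m := by
        refine hatom m _ (by rw [← map_mul, hidem']) ?_ (fun h =>
          hm' (hcAinj g⁻¹ (h.trans (map_zero _).symm)))
        rw [map_mul, ← hcAmul, inv_mul_cancel, hcA1, mul_comm (e m), mul_assoc, hidem]
      have h2 : cA g (e m) * e m' = cA g (e m) := by
        conv_rhs => rw [← h1, ← hcAmul, mul_inv_cancel, hcA1]
      have h3 := hatom m' _ hidem' (by rw [mul_assoc, hidem]) hm'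
      rw [← h3, h2]
    choose σ hσ using hperm
    letI : MulAction G (MaximalSpectrum A) :=
      { smul := σ
        one_smul := fun m => heinj (by show e (σ 1 m) = _; rw [hσ, hcA1])
        mul_smul := fun g g' m => heinj (by
          show e (σ (g * g') m) = e (σ g (σ g' m))
          rw [hσ, hσ, hσ, hcAmul]) }
    have hsmul : ∀ (g : G) m, ρ g * (e m).1 = (e (g • m)).1 * ρ g := by
      intro g m
      show _ = (e (σ g m)).1 * ρ g
      rw [hσ, hcA, mul_assoc, hig, mul_one]
    have hev : ∀ (g : G) m v, ρ g ((e m).1 v) = (e (g • m)).1 (ρ g v) := fun g m v =>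
      LinearMap.congr_fun (hsmul g m) v
    haveI : Nontrivial (MaximalSpectrum A) := by
      by_contra h
      rw [not_nontrivial_iff_subsingleton] at h
      refine ha0inj ?_
      -- then `a0` is invertible
      obtain ⟨m0, hm0⟩ : ∃ m0, P ⟨a0, ha0⟩ m0 ≠ 0 := by
        by_contra! hall
        exact ha0ne (congrArg Subtype.val (P.injective ((funext hall).trans (map_zero P).symm)))
      haveI := m0.isMaximal
      letI : Field (A ⧸ m0.asIdeal) := Ideal.Quotient.field _
      let c : ∀ i : MaximalSpectrum A, A ⧸ i.asIdeal :=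
        Pi.single m0 ((P ⟨a0, ha0⟩ m0)⁻¹)
      have hinv : P.symm c * ⟨a0, ha0⟩ = 1 := P.injective (by
        rw [map_mul, P.apply_symm_apply, map_one]
        funext i
        rw [Subsingleton.elim i m0, Pi.mul_apply, Pi.one_apply]
        simp only [c, Pi.single_eq_same]
        exact inv_mul_cancel₀ hm0)
      intro v v' hvv
      have h1 := fun u => LinearMap.congr_fun (congrArg Subtype.val hinv) u
      have h2 := congrArg (P.symm c).1 hvv
      calc v = ((1 : A) : Module.End k V) v := rfl
        _ = (P.symm c).1 (a0 v) := (h1 v).symm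
        _ = (P.symm c).1 (a0 v') := h2
        _ = v' := h1 v'
    haveI : MulAction.IsPretransitive G (MaximalSpectrum A) := by
      refine ⟨fun m m' => ?_⟩
      by_contra hno
      simp only [not_exists] at hno
      let S : Submodule k V := ⨆ g : G, LinearMap.range (e (g • m)).1
      have hSinv : ∀ g, ∀ v ∈ S, ρ g v ∈ S := by
        intro g v hv
        have hmap : S ≤ S.comap (ρ g) := by
          refine iSup_le fun g' => ?_
          rintro _ ⟨w, rfl⟩
          show ρ g ((e (g' • m)).1 w) ∈ S
          rw [hev, ← mul_smul]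
          exact Submodule.mem_iSup_of_mem (g * g') ⟨_, rfl⟩
        exact hmap hv
      have hkill : S ≤ LinearMap.ker (e m').1 := by
        refine iSup_le fun g => ?_
        rintro _ ⟨w, rfl⟩
        rw [LinearMap.mem_ker]
        have := congrArg Subtype.val (horth m' (g • m) (fun h => hno g h.symm))
        exact LinearMap.congr_fun this w
      rcases hirr S hSinv with h | h
      · apply hene m
        refine Subtype.ext (LinearMap.ext fun v => ?_)
        have : (e ((1 : G) • m)).1 v ∈ S := Submodule.mem_iSup_of_mem 1 ⟨v, rfl⟩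
        rw [h, Submodule.mem_bot, one_smul] at this
        exact this
      · apply hene m'
        refine Subtype.ext (LinearMap.ext fun v => ?_)
        exact LinearMap.mem_ker.1 (hkill (h ▸ Submodule.mem_top : v ∈ S))
    let blk : MaximalSpectrum A → Submodule k V := fun m => LinearMap.range (e m).1
    have hblk : ∀ m m', Module.finrank k (blk m) ≤ Module.finrank k (blk m') := by
      intro m m'
      obtain ⟨g, rfl⟩ := MulAction.exists_smul_eq G m m'
      have hginj : Function.Injective (ρ g) := fun a c hac => by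
        simpa [higv] using congrArg (ρ g⁻¹) hac
      rw [(Submodule.equivMapOfInjective (ρ g) hginj (blk m)).finrank_eq]
      refine Submodule.finrank_mono ?_
      rintro _ ⟨_, ⟨v, rfl⟩, rfl⟩
      exact ⟨ρ g v, (hev g m v).symm⟩
    obtain ⟨m0⟩ := (inferInstance : Nonempty (MaximalSpectrum A))
    set bd := Module.finrank k (blk m0) with hbd
    have hblk' : ∀ m, Module.finrank k (blk m) = bd := fun m => le_antisymm (hblk m m0) (hblk m0 m)
    let Φ : V →ₗ[k] (∀ m, blk m) := LinearMap.pi fun m =>
      LinearMap.codRestrict (blk m) (e m).1 fun v => ⟨v, rfl⟩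
    have hrecon : ∀ v, ∑ m, (e m).1 v = v := by
      intro v
      have h1 : ((∑ m, e m : A) : Module.End k V) v = v := by rw [hsum]; rfl
      rwa [AddSubmonoidClass.coe_finsetSum, LinearMap.sum_apply] at h1
    have hΦinj : Function.Injective Φ := fun v v' h => by
      rw [← hrecon v, ← hrecon v']
      exact Finset.sum_congr rfl fun m _ => congrArg Subtype.val (congrFun h m)
    have hΦsurj : Function.Surjective Φ := by
      intro f
      refine ⟨∑ m, (f m).1, funext fun m => Subtype.ext ?_⟩
      show (e m).1 (∑ m', (f m').1) = _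
      rw [map_sum, Finset.sum_eq_single m]
      · obtain ⟨w, hw⟩ := (f m).2
        rw [← hw]
        exact LinearMap.congr_fun (congrArg Subtype.val (hidem m)) w
      · intro m' _ hne
        obtain ⟨w, hw⟩ := (f m').2
        rw [← hw]
        exact LinearMap.congr_fun (congrArg Subtype.val (horth m m' hne.symm)) w
      · exact fun h => absurd (Finset.mem_univ m) h
    have hd := (LinearEquiv.ofBijective Φ ⟨hΦinj, hΦsurj⟩).finrank_eq
    rw [Module.finrank_pi_fintype, Finset.sum_congr rfl fun m _ => hblk' m, Finset.sum_const,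
      Finset.card_univ, smul_eq_mul, ← Nat.card_eq_fintype_card] at hd
    obtain ⟨R, hR, hRcard⟩ := exists_reps hp.out (MulAction.toPermHom G (MaximalSpectrum A) x)
      (by rw [← map_pow, hxp, map_one])
    set C := LinearMap.ker (ρ x - 1) with hC
    let Ψ : C →ₗ[k] (∀ m : R, blk (m : MaximalSpectrum A)) :=
      LinearMap.pi fun m : R => (LinearMap.proj (m : MaximalSpectrum A)) ∘ₗ Φ ∘ₗ C.subtype
    have hΨ : Function.Injective Ψ := by
      refine (injective_iff_map_eq_zero Ψ).2 fun c hc => Subtype.ext ?_
      rw [← hrecon (c : V)]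
      refine Finset.sum_eq_zero fun m _ => ?_
      refine eq_zero_of_reps (MulAction.toPermHom G (MaximalSpectrum A) x) (ρ x) (map_zero _)
        (fun m => (e m).1 (c : V)) (fun m => ?_) hR (fun r hr => ?_) m
      · show (e (x • m)).1 (c : V) = ρ x ((e m).1 (c : V))
        rw [hev, (hCfix _).1 c.2]
      · exact congrArg Subtype.val (congrFun hc ⟨r, hr⟩)
    have hCle := LinearMap.finrank_le_finrank_of_injective hΨ
    rw [Module.finrank_pi_fintype, Finset.sum_congr rfl fun (m : R) _ => hblk' m, Finset.sum_const,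
      Finset.card_univ, Fintype.card_coe, smul_eq_mul] at hCle
    have hnum' := hnum (MaximalSpectrum A) fun g hg m => heinj (by
      show e (σ g m) = e m
      rw [hσ]
      refine Subtype.ext ?_
      rw [hcA, hcommA _ (Algebra.subset_adjoin ⟨g, hg, rfl⟩) _ (e m).2, mul_assoc, hgi, mul_one])
    rw [show Nat.card {w // (MulAction.toPermHom G (MaximalSpectrum A) x) w = w} =
      Nat.card {w : MaximalSpectrum A // x • w = w} from rfl] at hRcard
    have hpos : 0 < Module.finrank k V := Module.finrank_pos
    by_contra hcon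
    rw [not_lt] at hcon
    rw [hd] at hcon hpos
    have h1 : Nat.card (MaximalSpectrum A) ≤ 2 * R.card := by
      have := hcon.trans (Nat.mul_le_mul_left 2 hCle)
      rw [← mul_assoc] at this
      exact Nat.le_of_mul_le_mul_right this (Nat.pos_of_mul_pos_left hpos)
    rw [← hRcard] at hnum'
    nlinarith [Nat.mul_le_mul_left p h1]

/-- The fixed space of an element of prime order `p > 3` when an abelian normal subgroup is not central. -/
theorem abelian_bound [Group.IsSolvable G] (ρ : G →* Module.End k V) (hinj : Function.Injective ρ)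
    (hirr : ∀ S : Submodule k V, (∀ g, ∀ v ∈ S, ρ g v ∈ S) → S = ⊥ ∨ S = ⊤)
    (B : Subgroup G) [hBn : B.Normal] (hab : ∀ a ∈ B, ∀ b ∈ B, a * b = b * a)
    (h3 : 3 < p) (x : G) (hxp : x ^ p = 1) (hcl : Subgroup.normalClosure ({x} : Set G) = ⊤)
    {b : G} (hbB : b ∈ B) (hbx : x * b ≠ b * x) :
    2 * Module.finrank k (LinearMap.ker (ρ x - 1)) < Module.finrank k V := by
  refine abelian_bound_of ρ hinj hirr B hab (by omega) x hxp ?_ hbB hbx
  intro Ω _ _ _ _ _
  have hfix := three_fix_le (Ω := Ω) (p := p) h3 hxp hcl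
  have h2 : 0 < Nat.card Ω := Nat.card_pos
  obtain ⟨j, hj⟩ := hp.out.odd_of_ne_two (by omega)
  obtain ⟨q, rfl⟩ := Nat.exists_eq_add_of_le (show 5 ≤ p by omega)
  rw [show 5 + q - 1 = 4 + q by omega]
  nlinarith [Nat.mul_le_mul_left (4 + q) hfix]

end CfsgLib.RepFix
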