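import Mathlib
import Cfsg.Agent.Lib.RepFix.Orbit

/-! The fixed space of an operator normalising a symplectic-type group, via the decomposition
`End V = ⊕_w ρ(w) C`. -/

set_option autoImplicit false
set_option linter.unusedSectionVars false

namespace CfsgLib.RepFix

universe u v w

variable {G : Type u} [Group G] [Finite G] {k : Type v} [Field k] {V : Type w} [AddCommGroup V]
  [Module k V] [FiniteDimensional k V]

/-- A lower bound on the centralizer of an operator by its fixed space. -/
theorem fixed_sq_lt (T : Module.End k V) (hT : T ≠ 1) (E : Submodule k (Module.End k V))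
    (hE : ∀ f : Module.End k V, T * f = f * T → f ∈ E) :
    Module.finrank k (LinearMap.ker (T - 1)) * Module.finrank k (LinearMap.ker (T - 1)) + 1 ≤
      Module.finrank k E := by
  set C := LinearMap.ker (T - 1) with hC
  set I := LinearMap.range (T - 1) with hI
  let Φ : ((V ⧸ I) →ₗ[k] C) →ₗ[k] Module.End k V :=
    { toFun := fun f => C.subtype ∘ₗ f ∘ₗ I.mkQ
      map_add' := fun f g => by ext; simp
      map_smul' := fun c f => by ext; simp }
  have hΦ : Function.Injective Φ := by
    intro f g e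
    refine Submodule.linearMap_qext _ (LinearMap.ext fun v => Subtype.ext ?_)
    exact LinearMap.congr_fun e v
  have hcomm : ∀ f, T * Φ f = Φ f * T := by
    intro f
    refine LinearMap.ext fun v => ?_
    show T (f (I.mkQ v) : V) = (f (I.mkQ (T v)) : V)
    have h1 : I.mkQ (T v) = I.mkQ v := by
      rw [Submodule.mkQ_apply, Submodule.mkQ_apply, Submodule.Quotient.eq]
      exact ⟨v, by simp⟩
    rw [h1]
    have h2 := LinearMap.mem_ker.1 (f (I.mkQ v)).2
    rw [LinearMap.sub_apply, sub_eq_zero] at h2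
    exact h2
  have h1ne : (1 : Module.End k V) ∉ LinearMap.range Φ := by
    rintro ⟨f, hf⟩
    refine hT (LinearMap.ext fun v => ?_)
    have h1 := hcomm f
    have h2 : v ∈ C := by
      have := LinearMap.congr_fun hf v
      rw [Module.End.one_apply] at this
      rw [← this]; exact (f (I.mkQ v)).2
    simpa [hC, sub_eq_zero] using h2
  have hle : LinearMap.range Φ ⊔ Submodule.span k {(1 : Module.End k V)} ≤ E := by
    refine sup_le ?_ ?_
    · rintro _ ⟨f, rfl⟩; exact hE _ (hcomm f)
    · rw [Submodule.span_le, Set.singleton_subset_iff]; exact hE 1 (by rw [mul_one, one_mul])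
  have hlt : LinearMap.range Φ < LinearMap.range Φ ⊔ Submodule.span k {(1 : Module.End k V)} :=
    lt_of_le_of_ne le_sup_left fun e => h1ne (e ▸ Submodule.mem_sup_right
      (Submodule.mem_span_singleton_self _))
  have h3 := (Submodule.finrank_lt_finrank_of_lt hlt).trans_le (Submodule.finrank_mono hle)
  rw [LinearMap.finrank_range_of_inj hΦ, Module.finrank_linearMap] at h3
  have h4 : Module.finrank k (V ⧸ I) = Module.finrank k C := by
    have h5 := LinearMap.finrank_range_add_finrank_ker (T - 1)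
    have h6 := I.finrank_quotient_add_finrank
    rw [← hC, ← hI] at h5
    omega
  rw [h4] at h3
  exact Nat.succ_le_of_lt h3

/-- The twisted group `Q/Z` acting on `End V`, and the resulting bound. -/
theorem symplectic_bound (ρ : G →* Module.End k V) (hinj : Function.Injective ρ)
    {W : Type u} [CommGroup W] [Fintype W] (r : W → G) (ζ : W → W →* k)
    (hr : ∀ v v', ∃ c : k, c ≠ 0 ∧ ρ (r (v * v')) = c • (ρ (r v) * ρ (r v')))
    (hζ : ∀ v u, ρ (r v) * ρ (r u) = ζ u v • (ρ (r u) * ρ (r v)))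
    (hζ' : ∀ v, v ≠ 1 → ∃ u, ζ u v ≠ 1) (hW : (Nat.card W : k) ≠ 0)
    (x : G) (hx : x ≠ 1) (σ : Equiv.Perm W)
    (hσ : ∀ v, ∃ c : k, c ≠ 0 ∧ ρ x * ρ (r v) * ρ x⁻¹ = c • ρ (r (σ v)))
    (R : Finset W) (hR : ∀ v, ∃ r ∈ R, ∃ i : ℕ, v = (σ ^ i) r) (hcard : 4 * R.card ≤ Nat.card W) :
    2 * Module.finrank k (LinearMap.ker (ρ x - 1)) < Module.finrank k V := by
  classical
  have hTx : ρ x ≠ 1 := fun e => hx (hinj (e.trans ρ.map_one.symm))
  have hnt : Nontrivial V := by
    by_contra h
    rw [not_nontrivial_iff_subsingleton] at h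
    exact hTx (LinearMap.ext fun v => Subsingleton.elim _ _)
  have hne0 : ∀ g : G, ρ g ≠ 0 := fun g e => by
    have : ρ g * ρ g⁻¹ = 1 := by rw [← map_mul, mul_inv_cancel, map_one]
    rw [e, zero_mul] at this
    exact zero_ne_one this
  have hgi : ∀ g : G, ρ g * ρ g⁻¹ = 1 := fun g => by rw [← map_mul, mul_inv_cancel, map_one]
  have hig : ∀ g : G, ρ g⁻¹ * ρ g = 1 := fun g => by rw [← map_mul, inv_mul_cancel, map_one]
  let cj : G → Module.End k V →ₗ[k] Module.End k V := fun g =>
    (LinearMap.mulRight k (ρ g⁻¹)) ∘ₗ (LinearMap.mulLeft k (ρ g))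
  have hcj : ∀ g f, cj g f = ρ g * f * ρ g⁻¹ := fun g f => rfl
  have hcjmul : ∀ g f f', cj g (f * f') = cj g f * cj g f' := fun g f f' => by
    simp only [hcj]
    calc ρ g * (f * f') * ρ g⁻¹ = ρ g * f * 1 * f' * ρ g⁻¹ := by simp [mul_assoc]
      _ = ρ g * f * (ρ g⁻¹ * ρ g) * f' * ρ g⁻¹ := by rw [hig]
      _ = _ := by simp only [mul_assoc]
  have hcjinv : ∀ g f, cj g⁻¹ (cj g f) = f := fun g f => by
    simp only [hcj, inv_inv]
    calc ρ g⁻¹ * (ρ g * f * ρ g⁻¹) * ρ g = (ρ g⁻¹ * ρ g) * f * (ρ g⁻¹ * ρ g) := by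
          simp only [mul_assoc]
      _ = f := by rw [hig, one_mul, mul_one]
  -- scaled operators give the same conjugation
  have hscale : ∀ (c : k) (g h : G), c ≠ 0 → ρ h = c • ρ g → cj h = cj g := by
    intro c g h hc e
    have e' : ρ h⁻¹ = c⁻¹ • ρ g⁻¹ := by
      have h1 : ρ h * (c⁻¹ • ρ g⁻¹) = 1 := by
        rw [e, smul_mul_smul_comm, mul_inv_cancel₀ hc, one_smul, hgi]
      calc ρ h⁻¹ = ρ h⁻¹ * (ρ h * (c⁻¹ • ρ g⁻¹)) := by rw [h1, mul_one]
        _ = _ := by rw [← mul_assoc, hig, one_mul]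
    refine LinearMap.ext fun f => ?_
    rw [hcj, hcj, e, e', smul_mul_assoc, smul_mul_smul_comm, mul_inv_cancel₀ hc, one_smul]
  let c : W → Module.End k V →ₗ[k] Module.End k V := fun v => cj (r v)
  have hcc : ∀ v v' f, c (v * v') f = c v (c v' f) := by
    intro v v' f
    obtain ⟨a, ha, e⟩ := hr v v'
    have h1 := LinearMap.congr_fun (hscale a (r v * r v') _ ha (by rw [e, map_mul])) f
    refine h1.trans ?_
    simp only [c, hcj, mul_inv_rev, map_mul, mul_assoc]
  have hcr : ∀ u v, c u (ρ (r v)) = ζ v u • ρ (r v) := by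
    intro u v
    show cj (r u) (ρ (r v)) = _
    rw [hcj, hζ u v, smul_mul_assoc, mul_assoc, hgi, mul_one]
  have hζne : ∀ v u, ζ v u ≠ 0 := fun v u => (Group.isUnit u).map (ζ v) |>.ne_zero
  have hζmul : ∀ v v' u, ζ (v * v') u = ζ v u * ζ v' u := by
    intro v v' u
    obtain ⟨a, ha, e⟩ := hr v v'
    have h1 := hcr u (v * v')
    rw [e, map_smul] at h1
    have h2 : c u (ρ (r v) * ρ (r v')) = (ζ v u * ζ v' u) • (ρ (r v) * ρ (r v')) := by
      show cj (r u) _ = _
      rw [hcjmul]
      rw [show cj (r u) (ρ (r v)) = ζ v u • ρ (r v) from hcr u v,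
        show cj (r u) (ρ (r v')) = ζ v' u • ρ (r v') from hcr u v', smul_mul_smul_comm]
    rw [h2, smul_comm] at h1
    exact (smul_left_injective k (M := Module.End k V) (smul_ne_zero ha (by
      rw [← map_mul]; exact hne0 _)) h1).symm
  have hcW : (Fintype.card W : k) ≠ 0 := by rwa [Nat.card_eq_fintype_card] at hW
  let π : W → Module.End k V →ₗ[k] Module.End k V := fun v =>
    (Fintype.card W : k)⁻¹ • ∑ u, ζ v u⁻¹ • c u
  have hπ : ∀ v f, π v f = (Fintype.card W : k)⁻¹ • ∑ u, ζ v u⁻¹ • c u f := fun v f => by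
    simp [π]
  have hπeig : ∀ v u f, c u (π v f) = ζ v u • π v f := by
    intro v u f
    rw [hπ, map_smul, map_sum, smul_comm (ζ v u), Finset.smul_sum (r := ζ v u)]
    congr 1
    refine (Fintype.sum_equiv (Equiv.mulLeft u) _ _ fun w => ?_).trans rfl
    rw [map_smul, ← hcc, smul_smul, Equiv.coe_mulLeft, ← map_mul, mul_inv_rev, mul_comm w⁻¹,
      ← mul_assoc, mul_inv_cancel, one_mul]
  have horth : ∀ v v', v ≠ v' → ∑ u, ζ v u⁻¹ * ζ v' u = 0 := by
    intro v v' hne
    let f : W →* k :=
      { toFun := fun u => ζ v u⁻¹ * ζ v' u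
        map_one' := by simp
        map_mul' := fun a b => by
          rw [mul_inv_rev, map_mul, map_mul]; ring }
    refine sum_hom_units_eq_zero f fun e => ?_
    obtain ⟨u, hu⟩ := hζ' (v⁻¹ * v') (fun e' => hne (inv_mul_eq_one.1 e'))
    -- the characters of `v` and `v'` agree, so `v⁻¹ v'` is in the radical
    have hall : ∀ w, ζ v w = ζ v' w := by
      intro w
      have h1 := DFunLike.congr_fun e w
      simp only [f, MonoidHom.coe_mk, OneHom.coe_mk, MonoidHom.one_apply] at h1
      calc ζ v w = ζ v w * (ζ v w⁻¹ * ζ v' w) := by rw [h1, mul_one]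
        _ = _ := by rw [← mul_assoc, ← map_mul, mul_inv_cancel, map_one, one_mul]
    have h3 : ζ (v⁻¹ * v') u = 1 := by
      have h4 := hζmul v (v⁻¹ * v') u
      rw [mul_inv_cancel_left, ← hall u] at h4
      exact (mul_eq_left₀ (hζne v u)).1 h4.symm
    have h5 : ζ u (v⁻¹ * v') = 1 := by
      have h1 := hζ u (v⁻¹ * v')
      rw [h3, one_smul] at h1
      have h2 := hζ (v⁻¹ * v') u
      rw [h1] at h2
      have hne : ρ (r (v⁻¹ * v')) * ρ (r u) ≠ 0 := by rw [← map_mul]; exact hne0 _
      exact (smul_left_injective k (M := Module.End k V) hne (by simpa using h2.symm))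
    exact hu h5
  have hsum : ∀ f, ∑ v, π v f = f := by
    intro f
    simp only [hπ]
    rw [← Finset.smul_sum, Finset.sum_comm]
    simp only [← Finset.sum_smul]
    have h1 : ∀ u : W, ∑ v, ζ v u⁻¹ = if u = 1 then (Fintype.card W : k) else 0 := by
      intro u
      split_ifs with h
      · subst h; simp
      · let f : W →* k :=
          { toFun := fun v => ζ v u⁻¹
            map_one' := by
              have h2 := hζmul 1 1 u⁻¹
              rw [one_mul] at h2
              exact (mul_eq_left₀ (hζne 1 u⁻¹)).1 h2.symm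
            map_mul' := fun a b => hζmul a b u⁻¹ }
        refine sum_hom_units_eq_zero f fun e => ?_
        obtain ⟨w, hw⟩ := hζ' u⁻¹ (inv_ne_one.2 h)
        exact hw (DFunLike.congr_fun e w)
    simp only [h1, ite_smul, zero_smul, Finset.sum_ite_eq', Finset.mem_univ, if_true]
    rw [smul_smul, inv_mul_cancel₀ hcW, one_smul]
    show cj (r 1) f = f
    have hc1 : ∀ g, c 1 (c 1 g) = c 1 g := fun g => by rw [← hcc, one_mul]
    have := congrArg (cj (r 1)⁻¹) (hc1 f)
    rwa [hcjinv, hcjinv] at this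
  have hπuniq : ∀ v v' f, (∀ u, c u f = ζ v' u • f) → π v f = if v = v' then f else 0 := by
    intro v v' f hf
    rw [hπ]
    simp only [hf, smul_smul, ← Finset.sum_smul]
    split_ifs with h
    · subst h
      have : ∀ u, ζ v u⁻¹ * ζ v u = 1 := fun u => by rw [← map_mul, inv_mul_cancel, map_one]
      simp only [this, Finset.sum_const, Finset.card_univ, nsmul_eq_mul, mul_one,
        inv_mul_cancel₀ hcW, one_smul]
    · rw [horth v v' h, mul_zero, zero_smul]
  let B : Submodule k (Module.End k V) := ⨅ u, LinearMap.ker (c u - LinearMap.id)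
  have hB : ∀ f, f ∈ B ↔ ∀ u, c u f = f := fun f => by
    simp [B, Submodule.mem_iInf, sub_eq_zero]
  have htoB : ∀ v f, ρ (r v)⁻¹ * π v f ∈ B := by
    intro v f
    refine (hB _).2 fun u => ?_
    show cj (r u) _ = _
    have h1 : cj (r u) (ρ (r v)⁻¹) = (ζ v u)⁻¹ • ρ (r v)⁻¹ := by
      have h2 : cj (r u) (ρ (r v)⁻¹) * cj (r u) (ρ (r v)) = 1 := by
        rw [← hcjmul, hig, hcj, mul_one, hgi]
      rw [show cj (r u) (ρ (r v)) = ζ v u • ρ (r v) from hcr u v, mul_smul_comm] at h2
      calc cj (r u) (ρ (r v)⁻¹) = cj (r u) (ρ (r v)⁻¹) * (ρ (r v) * ρ (r v)⁻¹) := by rw [hgi, mul_one]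
        _ = ((ζ v u)⁻¹ * ζ v u) • (cj (r u) (ρ (r v)⁻¹) * ρ (r v) * ρ (r v)⁻¹) := by
          rw [inv_mul_cancel₀ (hζne v u), one_smul, mul_assoc]
        _ = _ := by rw [mul_smul, ← smul_mul_assoc (ζ v u), h2, one_mul]
    rw [hcjmul, h1, show cj (r u) (π v f) = ζ v u • π v f from hπeig v u f, smul_mul_smul_comm,
      inv_mul_cancel₀ (hζne v u), one_smul]
  let Φ : Module.End k V →ₗ[k] (W → B) :=
    LinearMap.pi fun v => LinearMap.codRestrict B
      (LinearMap.mulLeft k (ρ (r v)⁻¹) ∘ₗ π v) (fun f => htoB v f)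
  have hΦ : ∀ f v, ρ (r v) * (Φ f v : Module.End k V) = π v f := fun f v => by
    show ρ (r v) * (ρ (r v)⁻¹ * π v f) = _
    rw [← mul_assoc, hgi, one_mul]
  have hΦinj : Function.Injective Φ := fun f g e => by
    rw [← hsum f, ← hsum g]
    exact Finset.sum_congr rfl fun v _ => by rw [← hΦ, ← hΦ, e]
  have hΦsurj : Function.Surjective Φ := by
    intro g
    refine ⟨∑ v, ρ (r v) * (g v : Module.End k V), funext fun v => Subtype.ext ?_⟩
    show ρ (r v)⁻¹ * π v (∑ v', ρ (r v') * (g v' : Module.End k V)) = _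
    rw [map_sum]
    have h1 : ∀ v', π v (ρ (r v') * (g v' : Module.End k V)) =
        if v = v' then ρ (r v') * (g v' : Module.End k V) else 0 := by
      intro v'
      refine hπuniq v v' _ fun u => ?_
      show cj (r u) _ = _
      rw [hcjmul, show cj (r u) (ρ (r v')) = ζ v' u • ρ (r v') from hcr u v',
        show cj (r u) (g v' : Module.End k V) = g v' from (hB _).1 (g v').2 u, smul_mul_assoc]
    simp only [h1, Finset.sum_ite_eq, Finset.mem_univ, if_true]
    rw [← mul_assoc, hig, one_mul]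
  have hdim : Module.finrank k V * Module.finrank k V = Fintype.card W * Module.finrank k B := by
    have h := (LinearEquiv.ofBijective Φ ⟨hΦinj, hΦsurj⟩).finrank_eq
    rwa [Module.finrank_linearMap, Module.finrank_pi_fintype, Finset.sum_const, Finset.card_univ,
      smul_eq_mul] at h
  -- the fixed points of `x`
  let E : Submodule k (Module.End k V) := LinearMap.ker (cj x - LinearMap.id)
  have hEeq : ∀ f, f ∈ E ↔ cj x f = f := fun f => by simp [E, sub_eq_zero]
  have hequiv : ∀ v f, cj x f = f → π (σ v) f = cj x (π v f) := by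
    intro v f hf
    have heig : ∀ v', ∀ u, c u (cj x (π v' f)) = ζ (σ v') u • cj x (π v' f) := by
      intro v' u
      obtain ⟨u', rfl⟩ := σ.surjective u
      obtain ⟨a, ha, e⟩ := hσ u'
      obtain ⟨b, hb, e'⟩ := hσ v'
      -- conjugation by `r (σ u')` is conjugation by `x (r u') x⁻¹`
      have h1 : ∀ g, c (σ u') g = cj x (c u' (cj x⁻¹ g)) := by
        intro g
        have h2 := LinearMap.congr_fun (hscale a (r (σ u')) (x * r u' * x⁻¹) ha
          (by rw [map_mul, map_mul, e])) g
        refine h2.symm.trans ?_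
        simp only [c, hcj, mul_inv_rev, map_mul, inv_inv, mul_assoc]
      rw [h1, hcjinv, hπeig, map_smul]
      congr 1
      have h3 := h1 (cj x (ρ (r v')))
      rw [hcjinv, hcr, map_smul, show cj x (ρ (r v')) = b • ρ (r (σ v')) from e', map_smul, hcr,
        smul_smul, smul_smul] at h3
      have h4 := smul_left_injective k (hne0 (r (σ v'))) h3
      rw [mul_comm (ζ v' u')] at h4
      exact (mul_left_cancel₀ hb h4).symm
    conv_lhs => rw [← hf, ← hsum f, map_sum, map_sum]
    rw [Finset.sum_eq_single v]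
    · rw [hπuniq _ _ _ (heig v), if_pos rfl]
    · intro v' _ hne
      rw [hπuniq _ _ _ (heig v'), if_neg fun e => hne (σ.injective e).symm]
    · exact fun h => absurd (Finset.mem_univ v) h
  let Ψ : E →ₗ[k] (R → B) := LinearMap.pi fun v : R => (LinearMap.proj (v : W)) ∘ₗ Φ ∘ₗ E.subtype
  have hΨ : Function.Injective Ψ := by
    intro f g e
    have hd : ∀ v, π v ((f : Module.End k V) - g) = 0 := by
      intro v
      refine eq_zero_of_reps σ (cj x) (map_zero _) (fun v => π v ((f : Module.End k V) - g))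
        (fun w => hequiv w _ (by rw [map_sub, (hEeq _).1 f.2, (hEeq _).1 g.2])) hR (fun r0 hr0 => ?_) v
      have h1 : Φ (f : Module.End k V) r0 = Φ (g : Module.End k V) r0 := congrFun e ⟨r0, hr0⟩
      rw [map_sub, ← hΦ, ← hΦ, h1, sub_self]
    refine Subtype.ext (sub_eq_zero.1 ?_)
    rw [← hsum ((f : Module.End k V) - g)]
    exact Finset.sum_eq_zero fun v _ => hd v
  have hEle := LinearMap.finrank_le_finrank_of_injective hΨ
  rw [Module.finrank_pi_fintype, Finset.sum_const, Finset.card_univ, Fintype.card_coe,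
    smul_eq_mul] at hEle
  have hlow := fixed_sq_lt (ρ x) hTx E fun f hf => (hEeq f).2 (by
    rw [hcj, hf, mul_assoc, hgi, mul_one])
  rw [Nat.card_eq_fintype_card] at hcard
  by_contra hcon
  have h1 : 4 * R.card * Module.finrank k B ≤ Fintype.card W * Module.finrank k B :=
    Nat.mul_le_mul_right _ hcard
  nlinarith [Nat.mul_le_mul (not_lt.1 hcon) (not_lt.1 hcon)]

end CfsgLib.RepFix
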