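import Mathlib
import Cfsg.Agent.Lib.RepFix.Extraspecial
import Cfsg.Agent.Lib.RepFix.Blocks
import Cfsg.Agent.Lib.Solvable.Fitting

/-! In a faithful irreducible representation of a solvable group generated by the conjugates of an
element of prime order `p > 3`, that element fixes less than half. -/

set_option autoImplicit false
set_option linter.unusedSectionVars false

namespace CfsgLib.RepFix

open scoped commutatorElement

universe u v w

/-- The bound for modules over prime fields in the universe of the group. -/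
def ModBound (p : ℕ) (H : Type u) [Group H] : Prop :=
  ∀ (q : ℕ) [Fact q.Prime] (U : Type u) [AddCommGroup U] [Module (ZMod q) U] [Finite U]
    (τ : H →* Module.End (ZMod q) U), Function.Injective τ → Group.IsSolvable H →
    (∀ S : Submodule (ZMod q) U, (∀ g, ∀ v ∈ S, τ g v ∈ S) → S = ⊥ ∨ S = ⊤) →
    ∀ x : H, x ^ p = 1 → x ≠ 1 → Subgroup.normalClosure ({x} : Set H) = ⊤ →
    2 * Module.finrank (ZMod q) (LinearMap.ker (τ x - 1)) < Module.finrank (ZMod q) U

variable {G : Type u} [Group G] [Finite G] {p : ℕ} [hp : Fact p.Prime]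

/-- The induction hypothesis applied to a group acting irreducibly on an elementary abelian group. -/
theorem chief_bound [Group.IsSolvable G]
    (IH : ∀ (H : Type u) [Group H] [Finite H], Nat.card H < Nat.card G → ModBound p H)
    {q : ℕ} [hq : Fact q.Prime] {W : Type u} [CommGroup W] [Finite W] (A : G →* MulAut W)
    (hker : ∃ y ∈ A.ker, y ≠ (1 : G)) (hpow : ∀ w : W, w ^ q = 1)
    (hirr : ∀ T : Subgroup W, (∀ g, ∀ w ∈ T, A g w ∈ T) → T = ⊥ ∨ T = ⊤)
    (hnc : ¬ IsCyclic W) (x : G) (hxp : x ^ p = 1)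
    (hcl : Subgroup.normalClosure ({x} : Set G) = ⊤) :
    ∃ m c : ℕ, Nat.card W = q ^ m ∧ Nat.card {w : W // A x w = w} = q ^ c ∧ 2 * c < m ∧ m ≠ 1 := by
  have hnsmul : ∀ w : Additive W, q • w = 0 := fun w =>
    Additive.toMul.injective (by rw [toMul_nsmul, hpow, toMul_zero])
  haveI iM : Module (ZMod q) (Additive W) := AddCommGroup.zmodModule hnsmul
  let f : MulAut W → (Additive W →ₗ[ZMod q] Additive W) := fun e =>
    (MonoidHom.toAdditive e.toMonoidHom).toZModLinearMap q
  have hf : ∀ e e', f (e * e') = (f e).comp (f e') := fun e e' => LinearMap.ext fun w => rfl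
  have hf1 : f 1 = LinearMap.id := LinearMap.ext fun w => rfl
  let E : MulAut W →* Module.End (ZMod q) (Additive W) := ⟨⟨f, hf1⟩, hf⟩
  have hEinj : Function.Injective E := fun e e' h => MulEquiv.ext fun w =>
    congrArg Additive.toMul (LinearMap.congr_fun h (Additive.ofMul w))
  let τ : G →* Module.End (ZMod q) (Additive W) := E.comp A
  have hirrτ : ∀ S : Submodule (ZMod q) (Additive W),
      (∀ g, ∀ v ∈ S, τ g v ∈ S) → S = ⊥ ∨ S = ⊤ := by
    intro S hS
    rcases hirr (AddSubgroup.toSubgroup' S.toAddSubgroup) (fun g w hw => hS g _ hw) with h | h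
    · left
      refine (Submodule.eq_bot_iff _).2 fun v hv => ?_
      have h1 : Additive.toMul v ∈ AddSubgroup.toSubgroup' S.toAddSubgroup := hv
      rw [h] at h1
      exact h1
    · right
      refine eq_top_iff.2 fun v _ => ?_
      have h1 : Additive.toMul v ∈ AddSubgroup.toSubgroup' S.toAddSubgroup := h ▸ Subgroup.mem_top _
      exact h1
  have hWnt : Nontrivial W := by
    by_contra h
    rw [not_nontrivial_iff_subsingleton] at h
    exact hnc inferInstance
  have hτx : τ x ≠ 1 := by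
    intro e
    have hkerT : τ.ker = ⊤ :=
      top_le_iff.1 (hcl ▸ Subgroup.normalClosure_le_normal (Set.singleton_subset_iff.2 e))
    obtain ⟨w, hw⟩ := exists_ne (1 : W)
    rcases hirr (Subgroup.zpowers w) (fun g v hv => by
      have h1 : τ g = 1 := (hkerT ▸ Subgroup.mem_top g : g ∈ τ.ker)
      have h2 : A g v = v := congrArg Additive.toMul (LinearMap.congr_fun h1 (Additive.ofMul v))
      rw [h2]; exact hv) with h | h
    · exact hw (Subgroup.zpowers_eq_bot.1 h)
    · exact hnc ⟨⟨w, fun y => (h ▸ Subgroup.mem_top y : y ∈ Subgroup.zpowers w)⟩⟩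
  haveI : Finite (Additive W) := (inferInstance : Finite W)
  haveI : Finite A.range := Finite.of_surjective _ A.rangeRestrict_surjective
  have hlt : Nat.card A.range < Nat.card G := by
    obtain ⟨y, hy, hy1⟩ := hker
    have h1 := A.ker.card_mul_index
    rw [Subgroup.index_ker] at h1
    have h2 : 1 < Nat.card A.ker := Finite.one_lt_card_iff_nontrivial.2
      ⟨⟨⟨y, hy⟩, 1, fun e => hy1 (congrArg Subtype.val e)⟩⟩
    have h0 : 0 < Nat.card A.range := Nat.card_pos
    nlinarith
  have hbound := IH A.range hlt q (Additive W) (E.comp A.range.subtype)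
    (hEinj.comp A.range.subtype_injective)
    (solvable_of_surjective A.rangeRestrict_surjective)
    (fun S hS => hirrτ S fun g v hv => hS ⟨A g, g, rfl⟩ v hv) (A.rangeRestrict x)
    (by rw [← map_pow, hxp, map_one])
    (fun e => hτx ((congrArg E (congrArg Subtype.val e : A x = 1)).trans (map_one E)))
    (by rw [← Set.image_singleton, ← Subgroup.map_normalClosure _ _ A.rangeRestrict_surjective, hcl,
      Subgroup.map_top_of_surjective _ A.rangeRestrict_surjective])
  have hW := Module.natCard_eq_pow_finrank (K := ZMod q) (V := Additive W)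
  have hC := Module.natCard_eq_pow_finrank (K := ZMod q) (V := LinearMap.ker (τ x - 1))
  rw [Nat.card_zmod] at hW hC
  refine ⟨_, _, hW, ?_, hbound, fun e => hnc (isCyclic_of_prime_card (p := q) ?_)⟩
  · refine Eq.trans ?_ hC
    refine Nat.card_congr (Equiv.subtypeEquiv Additive.ofMul fun w => ?_)
    rw [LinearMap.mem_ker, LinearMap.sub_apply, sub_eq_zero]
    exact Additive.ofMul.injective.eq_iff.symm
  · exact hW.trans (by rw [e, pow_one])

theorem nilpotent_case [Group.IsSolvable G] (h3 : 3 < p)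
    {k : Type v} [Field k] {V : Type w} [AddCommGroup V] [Module k V] [FiniteDimensional k V]
    (IH : ∀ (H : Type u) [Group H] [Finite H], Nat.card H < Nat.card G → ModBound p H)
    (ρ : G →* Module.End k V) (hinj : Function.Injective ρ)
    (hscal : ∀ z ∈ Subgroup.center G, ∃ c : k, ρ z = c • (1 : Module.End k V))
    (hab : ∀ B : Subgroup G, B.Normal → (∀ a ∈ B, ∀ b ∈ B, a * b = b * a) → B ≤ Subgroup.center G)
    {q : ℕ} [hq : Fact q.Prime] (Q : Subgroup G) [hQn : Q.Normal] (hQq : IsPGroup q Q)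
    (hQc : ¬ Q ≤ Subgroup.center G)
    (hmin : ∀ N : Subgroup G, N.Normal → N < Q → N ≤ Subgroup.center G)
    (x : G) (hxp : x ^ p = 1) (hx1 : x ≠ 1) (hcl : Subgroup.normalClosure ({x} : Set G) = ⊤) :
    2 * Module.finrank k (LinearMap.ker (ρ x - 1)) < Module.finrank k V := by
  classical
  have hQne : Q ≠ ⊥ := fun e => hQc (e ▸ bot_le)
  have hQnab : ∃ a ∈ Q, ∃ b ∈ Q, a * b ≠ b * a := by
    by_contra! h
    exact hQc (hab Q hQn h)
  let Z : Subgroup Q := (Subgroup.center G).subgroupOf Q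
  haveI hZn : Z.Normal := inferInstance
  have hcomm : ∀ a ∈ Q, ∀ b ∈ Q, ⁅a, b⁆ ∈ Subgroup.center G := by
    intro a ha b hb
    exact hmin ⁅Q, Q⁆ inferInstance (Group.IsSolvable.commutator_lt_of_ne_bot hQne)
      (Subgroup.commutator_mem_commutator ha hb)
  letI : CommGroup (Q ⧸ Z) := { (inferInstance : Group (Q ⧸ Z)) with
    mul_comm := fun a b => by
      obtain ⟨a, rfl⟩ := QuotientGroup.mk'_surjective Z a
      obtain ⟨b, rfl⟩ := QuotientGroup.mk'_surjective Z b
      rw [← commutatorElement_eq_one_iff_mul_comm, ← map_commutatorElement]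
      exact (QuotientGroup.eq_one_iff _).2 (hcomm a.1 a.2 b.1 b.2) }
  letI : Fintype (Q ⧸ Z) := Fintype.ofFinite _
  have hmk : ∀ y : Q, ((QuotientGroup.mk' Z y) = 1 ↔ (y : G) ∈ Subgroup.center G) := fun y =>
    (QuotientGroup.eq_one_iff y).trans Subgroup.mem_subgroupOf
  have hWq : IsPGroup q (Q ⧸ Z) := hQq.to_quotient Z
  have hWnt : Nontrivial (Q ⧸ Z) := by
    by_contra h
    rw [not_nontrivial_iff_subsingleton] at h
    exact hQc fun y hy => (hmk ⟨y, hy⟩).1 (Subsingleton.elim _ _)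
  -- subgroups of `W` normalised by `G` are trivial or everything
  have hnorm : ∀ T : Subgroup (Q ⧸ Z), ((T.comap (QuotientGroup.mk' Z)).map Q.subtype).Normal →
      T = ⊥ ∨ T = ⊤ := by
    intro T hT
    by_cases he : (T.comap (QuotientGroup.mk' Z)).map Q.subtype = Q
    · right
      refine eq_top_iff.2 fun w _ => ?_
      obtain ⟨y, rfl⟩ := QuotientGroup.mk'_surjective Z w
      have h1 : (y : G) ∈ (T.comap (QuotientGroup.mk' Z)).map Q.subtype := by rw [he]; exact y.2
      obtain ⟨y', hy', e⟩ := h1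
      exact (Subtype.ext e : y' = y) ▸ hy'
    · left
      refine (Subgroup.eq_bot_iff_forall _).2 fun w hw => ?_
      obtain ⟨y, rfl⟩ := QuotientGroup.mk'_surjective Z w
      exact (hmk y).2 (hmin _ hT (lt_of_le_of_ne (Subgroup.map_subtype_le _) he)
        (Subgroup.mem_map_of_mem Q.subtype hw))
  have hpow : ∀ w : Q ⧸ Z, w ^ q = 1 := by
    let f : (Q ⧸ Z) →* (Q ⧸ Z) := powMonoidHom q
    have hfn : ((f.range.comap (QuotientGroup.mk' Z)).map Q.subtype).Normal := by
      refine ⟨?_⟩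
      rintro _ ⟨y, ⟨t, ht⟩, rfl⟩ g
      obtain ⟨t, rfl⟩ := QuotientGroup.mk'_surjective Z t
      refine ⟨⟨g * y * g⁻¹, hQn.conj_mem _ y.2 g⟩,
        ⟨QuotientGroup.mk' Z ⟨g * t * g⁻¹, hQn.conj_mem _ t.2 g⟩, ?_⟩, rfl⟩
      have h1 : (((y⁻¹ * t ^ q : Q)) : G) ∈ Subgroup.center G := by
        rw [← hmk, map_mul, map_inv, map_pow]
        show _ * (powMonoidHom q _) = _
        rw [show (powMonoidHom q : (Q ⧸ Z) →* (Q ⧸ Z)) (QuotientGroup.mk' Z t) = _ from ht,
          inv_mul_cancel]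
      show powMonoidHom q (QuotientGroup.mk' Z _) = QuotientGroup.mk' Z _
      symm
      rw [powMonoidHom_apply, ← map_pow, ← inv_mul_eq_one, ← map_inv, ← map_mul, hmk]
      have h2 : (((⟨g * y * g⁻¹, hQn.conj_mem _ y.2 g⟩ : Q))⁻¹ *
          (⟨g * t * g⁻¹, hQn.conj_mem _ t.2 g⟩ : Q) ^ q : G) = g * ((y⁻¹ * t ^ q : Q) : G) * g⁻¹ := by
        simp only [Subgroup.coe_mul, InvMemClass.coe_inv, Subgroup.coe_pow, conj_pow]
        group
      simp only [Subgroup.coe_mul, InvMemClass.coe_inv, Subgroup.coe_pow] at h2 ⊢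
      rw [h2]
      exact Subgroup.Normal.conj_mem inferInstance _ (by simpa using h1) g
    rcases hnorm f.range hfn with h | h
    · intro w
      have h1 : f w ∈ f.range := ⟨w, rfl⟩
      rw [h] at h1
      exact h1
    · exfalso
      have hsurj : Function.Surjective f := MonoidHom.range_eq_top.1 h
      have hfinj := Finite.injective_iff_surjective.2 hsurj
      obtain ⟨n, hn⟩ := IsPGroup.iff_card.1 hWq
      have h2 : 1 < Nat.card (Q ⧸ Z) := Finite.one_lt_card
      obtain ⟨w, hw⟩ := exists_prime_orderOf_dvd_card' (G := Q ⧸ Z) q (by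
        rcases n with _ | n
        · rw [hn, pow_zero] at h2; omega
        · exact hn ▸ dvd_pow_self q n.succ_ne_zero)
      have h4 : w = 1 := hfinj (by
        show w ^ q = (1 : Q ⧸ Z) ^ q
        rw [one_pow, ← hw, pow_orderOf_eq_one])
      rw [h4, orderOf_one] at hw
      exact hq.out.one_lt.ne hw
  -- scalars
  haveI hVnt : Nontrivial V := by
    by_contra h
    rw [not_nontrivial_iff_subsingleton] at h
    exact hx1 (hinj (LinearMap.ext fun v => Subsingleton.elim _ _))
  have hne0 : ∀ g : G, ρ g ≠ 0 := fun g e => by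
    have : ρ g * ρ g⁻¹ = 1 := by rw [← map_mul, mul_inv_cancel, map_one]
    rw [e, zero_mul] at this
    exact zero_ne_one this
  have huniq : ∀ (g : G) (a b : k), a • ρ g = b • ρ g → a = b := fun g a b e =>
    smul_left_injective k (hne0 g) e
  choose! χ hχ using hscal
  have hχne : ∀ z ∈ Subgroup.center G, χ z ≠ 0 := fun z hz e => hne0 z (by rw [hχ z hz, e, zero_smul])
  let r : Q ⧸ Z → G := fun w => (Quotient.out w : Q)
  have hrQ : ∀ w, r w ∈ Q := fun w => (Quotient.out w).2
  have hrmk : ∀ w, QuotientGroup.mk' Z ⟨r w, hrQ w⟩ = w := fun w => QuotientGroup.out_eq' w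
  have hcong : ∀ (y y' : Q), QuotientGroup.mk' Z y = QuotientGroup.mk' Z y' →
      ∃ c : k, c ≠ 0 ∧ ρ (y : G) = c • ρ (y' : G) := by
    intro y y' e
    have hz : ((y * y'⁻¹ : Q) : G) ∈ Subgroup.center G := by
      rw [← hmk, map_mul, map_inv, e, mul_inv_cancel]
    refine ⟨χ _, hχne _ hz, ?_⟩
    rw [show (y : G) = ((y * y'⁻¹ : Q) : G) * y' by simp, map_mul, hχ _ hz, smul_mul_assoc, one_mul]
  have hr : ∀ v v', ∃ c : k, c ≠ 0 ∧ ρ (r (v * v')) = c • (ρ (r v) * ρ (r v')) := by
    intro v v'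
    obtain ⟨c, hc, e⟩ := hcong ⟨r (v * v'), hrQ _⟩ (⟨r v, hrQ _⟩ * ⟨r v', hrQ _⟩)
      (by rw [map_mul, hrmk, hrmk, hrmk])
    exact ⟨c, hc, by rw [← map_mul]; exact e⟩
  have hcomm' : ∀ (a b : G), a ∈ Q → b ∈ Q → ρ a * ρ b = χ ⁅a, b⁆ • (ρ b * ρ a) := by
    intro a b ha hb
    rw [← map_mul, ← map_mul, show a * b = ⁅a, b⁆ * (b * a) by rw [commutatorElement_def]; group,
      map_mul, hχ _ (hcomm a ha b hb), smul_mul_assoc, one_mul]
  have hζeq : ∀ (a b : G) (c : k), a ∈ Q → b ∈ Q → ρ a * ρ b = c • (ρ b * ρ a) → χ ⁅a, b⁆ = c :=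
    fun a b c ha hb e => huniq (b * a) _ _ (by rw [map_mul, ← hcomm' a b ha hb, e])
  let ζ : Q ⧸ Z → (Q ⧸ Z) →* k := fun u =>
    { toFun := fun v => χ ⁅r v, r u⁆
      map_one' := by
        refine hζeq _ _ _ (hrQ _) (hrQ _) ?_
        obtain ⟨c, hc, e⟩ := hcong ⟨r 1, hrQ _⟩ 1 (by rw [hrmk, map_one])
        simp only [OneMemClass.coe_one, map_one] at e
        rw [e, one_smul, smul_mul_assoc, mul_smul_comm, one_mul, mul_one]
      map_mul' := fun a b => by
        refine hζeq _ _ _ (hrQ _) (hrQ _) ?_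
        obtain ⟨c, hc, e⟩ := hr a b
        rw [e, smul_mul_assoc, mul_assoc, hcomm' _ _ (hrQ b) (hrQ u), mul_smul_comm, ← mul_assoc,
          hcomm' _ _ (hrQ a) (hrQ u), smul_mul_assoc, smul_smul, smul_smul, mul_smul_comm, smul_smul,
          mul_assoc]
        congr 1
        ring }
  have hζ : ∀ v u, ρ (r v) * ρ (r u) = ζ u v • (ρ (r u) * ρ (r v)) :=
    fun v u => hcomm' _ _ (hrQ v) (hrQ u)
  have hζ' : ∀ v, v ≠ 1 → ∃ u, ζ u v ≠ 1 := by
    intro v hv
    by_contra! hall
    have hyC : r v ∈ Q ⊓ Subgroup.centralizer (Q : Set G) := by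
      refine ⟨hrQ v, Subgroup.mem_centralizer_iff.2 fun y hy => ?_⟩
      obtain ⟨c, hc, e⟩ := hcong ⟨y, hy⟩ ⟨r (QuotientGroup.mk' Z ⟨y, hy⟩), hrQ _⟩ (hrmk _).symm
      refine hinj ?_
      rw [map_mul, map_mul, e, smul_mul_assoc, mul_smul_comm, hζ v, hall, one_smul]
    have h1 := hab (Q ⊓ Subgroup.centralizer (Q : Set G)) inferInstance
      (fun a ha b hb => Subgroup.mem_centralizer_iff.1 hb.2 a ha.1) hyC
    exact hv (hrmk v ▸ (hmk _).2 h1)
  -- `q` is invertible in `k`
  have hqk : (q : k) ≠ 0 := by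
    intro h0
    obtain ⟨a, ha, b, hb, hne⟩ := hQnab
    set v := QuotientGroup.mk' Z ⟨a, ha⟩
    obtain ⟨u, hu⟩ := hζ' v (fun e => hne (Subgroup.mem_center_iff.1 ((hmk _).1 e) b).symm)
    have h1 : (ζ u v) ^ q = 1 := by rw [← map_pow, hpow, map_one]
    haveI : CharP k q := CharP.charP_iff_prime_eq_zero hq.out |>.2 h0
    haveI : ExpChar k q := ExpChar.prime hq.out
    have h2 : (ζ u v - 1) ^ q = 0 := by rw [sub_pow_char, h1, one_pow, sub_self]
    exact hu (sub_eq_zero.1 (eq_zero_of_pow_eq_zero h2))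
  have hW0 : (Nat.card (Q ⧸ Z) : k) ≠ 0 := by
    obtain ⟨n, hn⟩ := IsPGroup.iff_card.1 hWq
    rw [hn, Nat.cast_pow]
    exact pow_ne_zero _ hqk
  -- the action of `G` on `W`
  let conjQ : G → Q →* Q := fun g =>
    MonoidHom.mk' (fun y => ⟨g * y * g⁻¹, hQn.conj_mem _ y.2 g⟩) fun a b => Subtype.ext (by simp)
  let act : G → (Q ⧸ Z) →* (Q ⧸ Z) := fun g => QuotientGroup.map Z Z (conjQ g) fun y hy => by
    rw [Subgroup.mem_comap, Subgroup.mem_subgroupOf]
    exact Subgroup.Normal.conj_mem inferInstance _ (Subgroup.mem_subgroupOf.1 hy) g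
  have hact : ∀ g y, act g (QuotientGroup.mk' Z y) =
      QuotientGroup.mk' Z ⟨g * y * g⁻¹, hQn.conj_mem _ y.2 g⟩ := fun g y => rfl
  have hact1 : act 1 = MonoidHom.id _ := MonoidHom.ext fun w => by
    obtain ⟨y, rfl⟩ := QuotientGroup.mk'_surjective Z w
    rw [hact, MonoidHom.id_apply]
    congr 1
    exact Subtype.ext (by simp)
  have hactmul : ∀ g g', act (g * g') = (act g).comp (act g') := fun g g' => MonoidHom.ext fun w => by
    obtain ⟨y, rfl⟩ := QuotientGroup.mk'_surjective Z w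
    rw [MonoidHom.comp_apply, hact, hact, hact]
    congr 1
    exact Subtype.ext (by simp [mul_assoc])
  let A : G →* MulAut (Q ⧸ Z) :=
    MonoidHom.mk' (fun g => MonoidHom.toMulEquiv (act g) (act g⁻¹)
      (by rw [← hactmul, inv_mul_cancel, hact1]) (by rw [← hactmul, mul_inv_cancel, hact1]))
      fun g g' => MulEquiv.ext fun w => DFunLike.congr_fun (hactmul g g') w
  have hA : ∀ (g : G) (y : Q), A g (QuotientGroup.mk' Z y) =
      QuotientGroup.mk' Z ⟨g * y * g⁻¹, hQn.conj_mem _ y.2 g⟩ := fun g y => hact g y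
  -- no cyclic
  have hnotcyc : ¬ IsCyclic (Q ⧸ Z) := by
    intro h
    obtain ⟨a, ha, b, hb, hne⟩ := hQnab
    refine hne (congrArg Subtype.val (commutative_of_cyclic_center_quotient (QuotientGroup.mk' Z) ?_
      (⟨a, ha⟩ : Q) ⟨b, hb⟩))
    intro y hy
    rw [MonoidHom.mem_ker, hmk] at hy
    exact Subgroup.mem_center_iff.2 fun g => Subtype.ext (Subgroup.mem_center_iff.1 hy g)
  have hkerA : ∃ y ∈ A.ker, y ≠ (1 : G) := by
    obtain ⟨⟨y, hy⟩, hy1⟩ := Subgroup.ne_bot_iff_exists_ne_one.1 hQne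
    refine ⟨y, MulEquiv.ext fun w => ?_, fun e => hy1 (Subtype.ext e)⟩
    obtain ⟨t, rfl⟩ := QuotientGroup.mk'_surjective Z w
    rw [hA]
    show _ = QuotientGroup.mk' Z t
    rw [show (⟨y * t * y⁻¹, hQn.conj_mem _ t.2 y⟩ : Q) = ⟨y, hy⟩ * t * ⟨y, hy⟩⁻¹ from rfl,
      map_mul, map_mul, map_inv, mul_comm (QuotientGroup.mk' Z (⟨y, hy⟩ : Q)), mul_inv_cancel_right]
  obtain ⟨m, c, hWc, hfixc, hcm, hm2⟩ := chief_bound IH A hkerA hpow (fun T hT => hnorm T ⟨by
      rintro _ ⟨y, hy, rfl⟩ g
      exact ⟨⟨g * y * g⁻¹, hQn.conj_mem _ y.2 g⟩, hT g _ hy, rfl⟩⟩) hnotcyc x hxp hcl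
  let σ : Equiv.Perm (Q ⧸ Z) := (A x).toEquiv
  have hσpow : ∀ (i : ℕ) w, (σ ^ i) w = A (x ^ i) w := by
    intro i
    induction i with
    | zero => intro w; rw [pow_zero, pow_zero, map_one]; rfl
    | succ i ih => intro w; rw [pow_succ', pow_succ', Equiv.Perm.mul_apply, map_mul, ih]; rfl
  have hσp : σ ^ p = 1 := Equiv.ext fun w => by rw [hσpow, hxp, map_one]; rfl
  obtain ⟨R, hR, hRc⟩ := exists_reps hp.out σ hσp
  refine symplectic_bound ρ hinj r ζ hr hζ hζ' hW0 x hx1 σ (fun v => ?_) R hR ?_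
  · obtain ⟨c, hc, e⟩ := hcong ⟨x * r v * x⁻¹, hQn.conj_mem _ (hrQ v) x⟩ ⟨r (σ v), hrQ _⟩ (by
      rw [hrmk, ← hact x ⟨r v, hrQ v⟩, hrmk]
      rfl)
    exact ⟨c, hc, by rw [← map_mul, ← map_mul]; exact e⟩
  · rw [show Nat.card {w : Q ⧸ Z // σ w = w} = q ^ c from hfixc, hWc] at hRc
    rw [hWc]
    obtain ⟨j, hj, hmj⟩ : ∃ j, 2 ≤ j ∧ m = c + j := ⟨m - c, by omega, by omega⟩
    rw [hmj, pow_add] at hRc ⊢
    have hq2 := hq.out.two_le
    have hp5 : 5 ≤ p := by
      obtain ⟨i, hi⟩ := hp.out.odd_of_ne_two (by omega)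
      omega
    obtain ⟨p', rfl⟩ := Nat.exists_eq_add_of_le hp5
    rw [show 5 + p' - 1 = 4 + p' by omega] at hRc
    -- it suffices that `4 (q^j + p - 1) ≤ p q^j`
    have key : 4 * (q ^ j + (4 + p')) ≤ (5 + p') * q ^ j := by
      by_cases h16 : 16 ≤ q ^ j
      · nlinarith
      have hqj : q ^ 2 ≤ q ^ j := Nat.pow_le_pow_right hq.out.pos hj
      have hq4 : q < 4 := by nlinarith
      have hj4 : j < 4 := by
        by_contra hh
        have h1 := Nat.pow_le_pow_right hq.out.pos (not_lt.1 hh)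
        have h2 := Nat.pow_le_pow_left hq2 4
        omega
      have hdvd : (5 + p') ∣ q ^ c * (q ^ j + (4 + p')) := ⟨R.card, by rw [hRc]; ring⟩
      have hcop : Nat.Coprime (5 + p') (q ^ c) :=
        ((Nat.coprime_primes hp.out hq.out).2 (by omega)).pow_right c
      have hd2 := hcop.dvd_of_dvd_mul_left hdvd
      have hpr := hp.out
      interval_cases q <;> interval_cases j
      · have h3 : (5 + p') ∣ 3 := (Nat.dvd_add_left dvd_rfl).1
          (by rwa [show (2:ℕ) ^ 2 + (4 + p') = 3 + (5 + p') by ring] at hd2)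
        exact absurd (Nat.le_of_dvd (by norm_num) h3) (by omega)
      · have h3 : (5 + p') ∣ 7 := (Nat.dvd_add_left dvd_rfl).1
          (by rwa [show (2:ℕ) ^ 3 + (4 + p') = 7 + (5 + p') by ring] at hd2)
        rcases (Nat.dvd_prime (by norm_num)).1 h3 with h4 | h4
        · omega
        · omega
      · have h3 : (5 + p') ∣ 8 := (Nat.dvd_add_left dvd_rfl).1
          (by rwa [show (3:ℕ) ^ 2 + (4 + p') = 8 + (5 + p') by ring] at hd2)
        have h5 : (5 + p') ∣ 2 := hpr.dvd_of_dvd_pow (show (5 + p') ∣ 2 ^ 3 from h3)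
        exact absurd (Nat.le_of_dvd (by norm_num) h5) (by omega)
      · omega
    have h1 := Nat.mul_le_mul_left (q ^ c) key
    refine Nat.le_of_mul_le_mul_left (?_ : (5 + p') * _ ≤ (5 + p') * _) (by omega)
    nlinarith

/-- One induction step. -/
theorem step [Group.IsSolvable G] (h3 : 3 < p)
    {k : Type v} [Field k] {V : Type w} [AddCommGroup V] [Module k V] [FiniteDimensional k V]
    (IH : ∀ (H : Type u) [Group H] [Finite H], Nat.card H < Nat.card G → ModBound p H)
    (ρ : G →* Module.End k V) (hinj : Function.Injective ρ)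
    (hirr : ∀ S : Submodule k V, (∀ g, ∀ v ∈ S, ρ g v ∈ S) → S = ⊥ ∨ S = ⊤)
    (x : G) (hxp : x ^ p = 1) (hx1 : x ≠ 1) (hcl : Subgroup.normalClosure ({x} : Set G) = ⊤) :
    2 * Module.finrank k (LinearMap.ker (ρ x - 1)) < Module.finrank k V := by
  classical
  haveI hVnt : Nontrivial V := by
    by_contra h
    rw [not_nontrivial_iff_subsingleton] at h
    exact hx1 (hinj (LinearMap.ext fun v => Subsingleton.elim _ _))
  by_cases habel : Subgroup.center G = ⊤
  · have hinv : ∀ g, ∀ v ∈ LinearMap.ker (ρ x - 1), ρ g v ∈ LinearMap.ker (ρ x - 1) := by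
      intro g v hv
      rw [LinearMap.mem_ker, LinearMap.sub_apply, sub_eq_zero, Module.End.one_apply] at hv ⊢
      rw [← Module.End.mul_apply, ← map_mul,
        (Subgroup.mem_center_iff.1 (habel ▸ Subgroup.mem_top x) g).symm, map_mul,
        Module.End.mul_apply, hv]
    rcases hirr _ hinv with h | h
    · rw [h, finrank_bot, mul_zero]
      exact Module.finrank_pos
    · exact absurd (hinj ((sub_eq_zero.1 (LinearMap.ker_eq_top.1 h)).trans ρ.map_one.symm)) hx1
  by_cases hab : ∀ B : Subgroup G, B.Normal → (∀ a ∈ B, ∀ b ∈ B, a * b = b * a) → B ≤ Subgroup.center G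
  swap
  · push Not at hab
    obtain ⟨B, hBn, hBab, hBc⟩ := hab
    haveI := hBn
    obtain ⟨b, hbB, hbx⟩ : ∃ b ∈ B, x * b ≠ b * x := by
      by_contra! hall
      refine hBc fun b hb => ?_
      have htop : Subgroup.centralizer (B : Set G) = ⊤ :=
        top_le_iff.1 (hcl ▸ Subgroup.normalClosure_le_normal (Set.singleton_subset_iff.2
          (Subgroup.mem_centralizer_iff.2 fun a ha => (hall a ha).symm)))
      exact Subgroup.mem_center_iff.2 fun g =>
        (Subgroup.mem_centralizer_iff.1 (htop ▸ Subgroup.mem_top g) b hb).symm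
    exact abelian_bound ρ hinj hirr B hBab h3 x hxp hcl hbB hbx
  -- a noncentral nilpotent normal subgroup
  obtain ⟨q, hq, hQ0⟩ : ∃ q : ℕ, q.Prime ∧ ¬ Cfsg.pCore q G ≤ Subgroup.center G := by
    by_contra! hall
    have hF : Cfsg.fittingSubgroup G ≤ Subgroup.center G := by
      rw [CfsgLib.Fitting.fitting_eq_iSup_pCore]
      exact iSup_le fun r => hall r (Nat.prime_of_mem_primeFactors r.2)
    refine habel (top_le_iff.1 fun g _ => hF (CfsgLib.Fitting.centralizer_fitting_le ?_))
    exact Subgroup.mem_centralizer_iff.2 fun z hz => (Subgroup.mem_center_iff.1 (hF hz) g).symm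
  haveI := Fact.mk hq
  obtain ⟨Q, hQ⟩ : ∃ Q : Subgroup G,
      Minimal (fun N : Subgroup G => N.Normal ∧ IsPGroup q N ∧ ¬ N ≤ Subgroup.center G) Q :=
    exists_minimal_of_wellFoundedLT _ ⟨_, CfsgLib.Fitting.pCore_normal q, CfsgLib.Fitting.pCore_isPGroup q, hQ0⟩
  haveI := hQ.1.1
  have hmin : ∀ N : Subgroup G, N.Normal → N < Q → N ≤ Subgroup.center G := fun N hN hlt => by
    by_contra hc
    exact (hQ.2 ⟨hN, hQ.1.2.1.to_le hlt.le, hc⟩ hlt.le).not_gt hlt
  -- scalars: the field generated by the centre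
  let A : Subalgebra k (Module.End k V) := Algebra.adjoin k (ρ '' (Subgroup.center G : Set G))
  have hcomm : ∀ a ∈ A, ∀ g, ρ g * a = a * ρ g := by
    intro a ha g
    induction ha using Algebra.adjoin_induction with
    | mem y hy =>
      obtain ⟨z, hz, rfl⟩ := hy
      rw [← map_mul, ← map_mul, Subgroup.mem_center_iff.1 hz g]
    | algebraMap c => exact (Algebra.commutes c _).symm
    | add y z _ _ hy hz => rw [mul_add, add_mul, hy, hz]
    | mul y z _ _ hy hz => rw [← mul_assoc, hy, mul_assoc, hz, mul_assoc]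
  have hcommA : ∀ a ∈ A, ∀ a' ∈ A, a * a' = a' * a := by
    intro a ha a' ha'
    induction ha using Algebra.adjoin_induction with
    | mem y hy => obtain ⟨g, -, rfl⟩ := hy; exact hcomm a' ha' g
    | algebraMap c => exact Algebra.commutes c _
    | add y z _ _ hy hz => rw [mul_add, add_mul, hy, hz]
    | mul y z _ _ hy hz => rw [mul_assoc, hz, ← mul_assoc, hy, mul_assoc]
  letI : CommRing A := { (inferInstance : Ring A) with
    mul_comm := fun a c => Subtype.ext (hcommA a.1 a.2 c.1 c.2) }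
  have hinjA : ∀ a : A, a ≠ 0 → Function.Injective a.1 := by
    intro a ha
    rcases hirr (LinearMap.ker a.1) (fun g v hv => by
      rw [LinearMap.mem_ker] at hv ⊢
      rw [← Module.End.mul_apply, ← hcomm a.1 a.2 g, Module.End.mul_apply, hv, map_zero]) with h | h
    · exact LinearMap.ker_eq_bot.1 h
    · exact absurd (Subtype.ext (LinearMap.ker_eq_top.1 h)) ha
  haveI : NoZeroDivisors A := ⟨fun {a c} hac => by
    by_contra hne
    push Not at hne
    exact hne.2 (Subtype.ext (LinearMap.ext fun v => hinjA a hne.1 (by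
      show a.1 (c.1 v) = a.1 0
      rw [map_zero]
      exact LinearMap.congr_fun (congrArg Subtype.val hac) v)))⟩
  haveI : IsDomain A := NoZeroDivisors.to_isDomain A
  have hfield : IsField A := isField_of_isIntegral_of_isField' (R := k) (Field.toIsField k)
  letI : Field A := hfield.toField
  haveI : FiniteDimensional A V := Module.Finite.of_restrictScalars_finite k A V
  let ρ' : G →* Module.End A V :=
    { toFun := fun g =>
        { toFun := ρ g
          map_add' := map_add _
          map_smul' := fun a v => LinearMap.congr_fun (hcomm a.1 a.2 g) v }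
      map_one' := LinearMap.ext fun v => LinearMap.congr_fun (map_one ρ) v
      map_mul' := fun g g' => LinearMap.ext fun v => LinearMap.congr_fun (map_mul ρ g g') v }
  have hρ' : Function.Injective ρ' := fun g g' e => hinj (LinearMap.ext fun v =>
    (LinearMap.congr_fun e v : (ρ' g) v = (ρ' g') v))
  have key := nilpotent_case (p := p) h3 (k := A) IH ρ' hρ'
    (fun z hz => ⟨⟨ρ z, Algebra.subset_adjoin ⟨z, hz, rfl⟩⟩, LinearMap.ext fun v => rfl⟩)
    hab Q hQ.1.2.1 hQ.1.2.2 hmin x hxp hx1 hcl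
  have hker : (LinearMap.ker (ρ' x - 1)).restrictScalars k = LinearMap.ker (ρ x - 1) := by
    ext v; exact Iff.rfl
  have e1 := Module.finrank_mul_finrank k A V
  have e2 := Module.finrank_mul_finrank k A (LinearMap.ker (ρ' x - 1))
  have e3 : Module.finrank k (LinearMap.ker (ρ x - 1)) = Module.finrank k (LinearMap.ker (ρ' x - 1)) := by
    rw [← hker]; rfl
  have hpos : 0 < Module.finrank k A := Module.finrank_pos
  rw [← e1, e3, ← e2]
  calc 2 * (Module.finrank k A * Module.finrank A (LinearMap.ker (ρ' x - 1)))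
      = Module.finrank k A * (2 * Module.finrank A (LinearMap.ker (ρ' x - 1))) := by ring
    _ < Module.finrank k A * Module.finrank A V := Nat.mul_lt_mul_of_pos_left key hpos

/-- The bound for all finite groups over prime fields. -/
theorem modBound_all (h3 : 3 < p) (n : ℕ) :
    ∀ (H : Type u) [Group H] [Finite H], Nat.card H = n → ModBound p H := by
  induction n using Nat.strong_induction_on with
  | _ n ih =>
    intro H _ _ hn q _ U _ _ _ τ hinj hsol hirr x hxp hx1 hcl
    haveI := hsol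
    exact step h3 (fun H' _ _ hlt => ih _ (hn ▸ hlt) H' rfl) τ hinj hirr x hxp hx1 hcl

/-- The fixed space of an element of prime order `p > 3` whose conjugates generate a solvable group
has less than half the dimension of a faithful irreducible module. -/
theorem finrank_fixed_lt [Group.IsSolvable G] (h3 : 3 < p)
    {k : Type v} [Field k] {V : Type w} [AddCommGroup V] [Module k V] [FiniteDimensional k V]
    (ρ : G →* Module.End k V) (hinj : Function.Injective ρ)
    (hirr : ∀ S : Submodule k V, (∀ g, ∀ v ∈ S, ρ g v ∈ S) → S = ⊥ ∨ S = ⊤)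
    (x : G) (hxp : x ^ p = 1) (hx1 : x ≠ 1) (hcl : Subgroup.normalClosure ({x} : Set G) = ⊤) :
    2 * Module.finrank k (LinearMap.ker (ρ x - 1)) < Module.finrank k V :=
  step h3 (fun H _ _ _ => modBound_all h3 _ H rfl) ρ hinj hirr x hxp hx1 hcl

end CfsgLib.RepFix
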