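import Mathlib
import Cfsg.Agent.Lib.RepFix.Main
import Cfsg.Agent.Lib.Coprime.Commutator
import Cfsg.Agent.Lib.LocalEven.InvolvesFour
import Cfsg.Agent.Lib.Techniques.Basic
import Cfsg.Agent.Lib.Solvable.Fitting
import Cfsg.Agent.Lib.Structure.Subnormal

/-! Maximal two-generated solvable subgroups `⟨P, Pᵃ⟩`, `|P| = p > 3`: the Fitting subgroup centralizes
the coprime nilpotent subgroups it normalizes (Flavell). -/

set_option autoImplicit false
set_option linter.unusedSectionVars false

namespace CfsgLib.RepFix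

open Subgroup
open scoped commutatorElement

variable {G : Type*} [Group G] [Finite G] {p : ℕ} [hp : Fact p.Prime]

/-- Fixed points on an irreducible elementary abelian section: `|C(x)|² < |U|`. -/
theorem fixed_sq_lt_card {H : Type*} [Group H] [Finite H] [Group.IsSolvable H] {W : Type*} [CommGroup W]
    [Finite W] {q : ℕ} [hq : Fact q.Prime] (h3 : 3 < p) (A : H →* MulAut W) (hpow : ∀ w : W, w ^ q = 1)
    (hirr : ∀ T : Subgroup W, (∀ g, ∀ w ∈ T, A g w ∈ T) → T = ⊥ ∨ T = ⊤)
    (x : H) (hxp : x ^ p = 1) (hAx : A x ≠ 1) (hcl : Subgroup.normalClosure ({x} : Set H) = ⊤) :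
    Nat.card {w : W // A x w = w} * Nat.card {w : W // A x w = w} < Nat.card W := by
  have hnsmul : ∀ w : Additive W, q • w = 0 := fun w =>
    Additive.toMul.injective (by rw [toMul_nsmul, hpow, toMul_zero])
  haveI iM : Module (ZMod q) (Additive W) := AddCommGroup.zmodModule hnsmul
  haveI : Finite (Additive W) := (inferInstance : Finite W)
  let f : MulAut W → (Additive W →ₗ[ZMod q] Additive W) := fun e =>
    (MonoidHom.toAdditive e.toMonoidHom).toZModLinearMap q
  have hf : ∀ e e', f (e * e') = (f e).comp (f e') := fun e e' => LinearMap.ext fun w => rfl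
  have hf1 : f 1 = LinearMap.id := LinearMap.ext fun w => rfl
  let E : MulAut W →* Module.End (ZMod q) (Additive W) := ⟨⟨f, hf1⟩, hf⟩
  have hEinj : Function.Injective E := fun e e' h => MulEquiv.ext fun w =>
    congrArg Additive.toMul (LinearMap.congr_fun h (Additive.ofMul w))
  haveI : Group.IsSolvable A.range := solvable_of_surjective A.rangeRestrict_surjective
  haveI : Finite A.range := Finite.of_surjective _ A.rangeRestrict_surjective
  have key := finrank_fixed_lt h3 (E.comp A.range.subtype) (hEinj.comp A.range.subtype_injective)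
    (fun S hS => by
      rcases hirr (AddSubgroup.toSubgroup' S.toAddSubgroup) (fun g w hw => hS ⟨A g, g, rfl⟩ _ hw) with h | h
      · left
        refine (Submodule.eq_bot_iff _).2 fun v hv => ?_
        have h1 : Additive.toMul v ∈ AddSubgroup.toSubgroup' S.toAddSubgroup := hv
        rw [h] at h1
        exact h1
      · right
        refine eq_top_iff.2 fun v _ => ?_
        have h1 : Additive.toMul v ∈ AddSubgroup.toSubgroup' S.toAddSubgroup := h ▸ Subgroup.mem_top _
        exact h1)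
    (A.rangeRestrict x) (by rw [← map_pow, hxp, map_one]) (fun e => hAx (congrArg Subtype.val e))
    (by rw [← Set.image_singleton, ← Subgroup.map_normalClosure _ _ A.rangeRestrict_surjective, hcl,
      Subgroup.map_top_of_surjective _ A.rangeRestrict_surjective])
  have hW := Module.natCard_eq_pow_finrank (K := ZMod q) (V := Additive W)
  have hC := Module.natCard_eq_pow_finrank (K := ZMod q)
    (V := LinearMap.ker ((E.comp A.range.subtype) (A.rangeRestrict x) - 1))
  rw [Nat.card_zmod] at hW hC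
  have hC' : Nat.card {w : W // A x w = w} = Nat.card (LinearMap.ker
      ((E.comp A.range.subtype) (A.rangeRestrict x) - 1)) := by
    refine Nat.card_congr (Equiv.subtypeEquiv Additive.ofMul fun w => ?_)
    rw [LinearMap.mem_ker, LinearMap.sub_apply, sub_eq_zero]
    exact Additive.ofMul.injective.eq_iff.symm
  rw [hC', hC, ← pow_add, show Nat.card W = Nat.card (Additive W) from rfl, hW]
  exact Nat.pow_lt_pow_right hq.out.one_lt (by omega)

/-- Conjugation in `A` of elements lying in a complement. -/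
theorem mem_centralizer_of_complement {A U : Subgroup G} [U.Normal] (hAU : A ⊓ U = ⊥)
    {w π : G} (hw : w ∈ U) (hπ : π ∈ A) (h : w⁻¹ * π * w ∈ A) : π * w = w * π := by
  have h1 : π⁻¹ * (w⁻¹ * π * w) ∈ A ⊓ U := by
    refine ⟨A.mul_mem (A.inv_mem hπ) h, ?_⟩
    rw [show π⁻¹ * (w⁻¹ * π * w) = (π⁻¹ * w⁻¹ * π) * w by group]
    exact U.mul_mem (by simpa using (inferInstance : U.Normal).conj_mem _ (U.inv_mem hw) π⁻¹) hw
  rw [hAU, mem_bot, inv_mul_eq_one] at h1
  calc π * w = w * (w⁻¹ * π * w) := by group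
    _ = w * π := by rw [← h1]

/-- The minimal situation. -/
theorem exists_generating {A U X P : Subgroup G} [U.Normal] {r s : ℕ} [hr : Fact r.Prime]
    [hs : Fact s.Prime] (hrs : r ≠ s) (h3 : 3 < p) (hsolA : Group.IsSolvable A) (htop : A ⊔ U = ⊤)
    (hAU : A ⊓ U = ⊥) (hUab : ∀ a ∈ U, ∀ b ∈ U, a * b = b * a) (hUpow : ∀ a ∈ U, a ^ s = 1)
    (hirr : ∀ T : Subgroup G, T ≤ U → A ≤ normalizer (T : Set G) → T = ⊥ ∨ T = U)
    (hXA : X ≤ A) (hXn : A ≤ normalizer (X : Set G)) (hX : IsPGroup r X)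
    (hXU : ¬ U ≤ centralizer (X : Set G))
    (hP : Nat.card P = p) {a : G} (ha : a ∈ A) (hA : A = P ⊔ P.map (MulAut.conj a).toMonoidHom) :
    ∃ u ∈ U, P ⊔ P.map (MulAut.conj (u * a)).toMonoidHom = ⊤ := by
  classical
  by_contra! hall
  have hPA : P ≤ A := hA ▸ le_sup_left
  have hCU : ∀ v ∈ U, v ∈ centralizer (X : Set G) → v = 1 := by
    intro v hv hvC
    rcases hirr (U ⊓ centralizer (X : Set G)) inf_le_left (fun y hy =>
      inf_normalizer_le_normalizer_inf ⟨by rw [normalizer_eq_top]; exact mem_top _,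
        CfsgLib.Techniques.normalizer_le_normalizer_centralizer _ (hXn hy)⟩) with h | h
    · exact (mem_bot.1 (h ▸ (⟨hv, hvC⟩ : v ∈ U ⊓ centralizer (X : Set G))))
    · exact absurd (h ▸ inf_le_right) hXU
  -- the normalizer of `X`
  have hNX : normalizer (X : Set G) ≤ A := by
    intro g hg
    have hg' : g ∈ A ⊔ U := htop ▸ mem_top _
    obtain ⟨b, hb, v, hv, rfl⟩ := mem_sup_of_normal_right.1 hg'
    have hvN : v ∈ normalizer (X : Set G) := by simpa using mul_mem (inv_mem (hXn hb)) hg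
    have hv1 : v = 1 := hCU v hv (mem_centralizer_iff.2 fun y hy => by
      refine mem_centralizer_of_complement hAU hv (hXA hy) (hXA ?_)
      have := (mem_normalizer_iff.1 (inv_mem hvN) y).1 hy
      rwa [inv_inv] at this)
    rw [hv1, mul_one]; exact hb
  -- fixed points
  have hxP : ∃ x ∈ P, x ≠ 1 := by
    haveI : Nontrivial P := Finite.one_lt_card_iff_nontrivial.1 (hP ▸ hp.out.one_lt)
    obtain ⟨x, hx⟩ := exists_ne (1 : P)
    exact ⟨x, x.2, fun e => hx (Subtype.ext e)⟩
  obtain ⟨x, hxP, hx1⟩ := hxP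
  have hPx : P = zpowers x := by
    refine (eq_of_le_of_card_ge (zpowers_le.2 hxP) ?_).symm
    have h1 : orderOf x ∣ p := hP ▸ Subgroup.orderOf_dvd_natCard P hxP
    rw [hP, Nat.card_zpowers, ((Nat.dvd_prime hp.out).1 h1).resolve_left (fun e => hx1 (orderOf_eq_one_iff.1 e))]
  have hxp : x ^ p = 1 := orderOf_dvd_iff_pow_eq_one.1 (hP ▸ Subgroup.orderOf_dvd_natCard P hxP)
  letI : CommGroup U :=
    { (inferInstance : Group U) with mul_comm := fun b c => Subtype.ext (hUab b.1 b.2 c.1 c.2) }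
  let act : A →* MulAut U := (MulAut.conjNormal (H := U)).comp A.subtype
  have hact : ∀ (b : A) (v : U), ((act b v : U) : G) = (b : G) * v * (b : G)⁻¹ := fun b v => rfl
  let x' : A := ⟨x, hPA hxP⟩
  have hclA : Subgroup.normalClosure ({x'} : Set A) = ⊤ := by
    refine top_le_iff.1 fun b _ => ?_
    have hle : A ≤ (Subgroup.normalClosure ({x'} : Set A)).map A.subtype := by
      conv_lhs => rw [hA]
      refine sup_le ?_ ?_
      · rw [hPx, zpowers_le]
        exact ⟨x', subset_normalClosure (Set.mem_singleton x'), rfl⟩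
      · rw [hPx, MonoidHom.map_zpowers, zpowers_le]
        refine ⟨⟨a, ha⟩ * x' * ⟨a, ha⟩⁻¹,
          normalClosure_normal.conj_mem x' (subset_normalClosure (Set.mem_singleton x')) ⟨a, ha⟩, ?_⟩
        simp [x']
    obtain ⟨b', hb', e⟩ := hle b.2
    have e' : b' = b := Subtype.ext e
    exact e' ▸ hb'
  have hax : act x' ≠ 1 := by
    intro e
    have hkey : act.ker = ⊤ :=
      top_le_iff.1 (hclA ▸ normalClosure_le_normal (Set.singleton_subset_iff.2 e))
    refine hXU fun v hv => mem_centralizer_iff.2 fun y hy => ?_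
    have h1 : act ⟨y, hXA hy⟩ = 1 := (hkey ▸ mem_top _ : (⟨y, hXA hy⟩ : A) ∈ act.ker)
    have h2 : y * v * y⁻¹ = v := congrArg Subtype.val (MulEquiv.congr_fun h1 ⟨v, hv⟩)
    exact mul_inv_eq_iff_eq_mul.1 h2
  have hlt := fixed_sq_lt_card (p := p) (q := s) h3 act
    (fun v => Subtype.ext (hUpow v.1 v.2))
    (fun T hT => by
      rcases hirr (T.map U.subtype) (map_subtype_le _) (fun b hb =>
        CfsgLib.Techniques.map_conj_eq_self_iff.1 (eq_of_le_of_card_ge (by
          rintro _ ⟨_, ⟨v, hv, rfl⟩, rfl⟩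
          exact ⟨act ⟨b, hb⟩ v, hT _ v hv, rfl⟩) (CfsgLib.Techniques.card_map_conj _ b).ge)) with h | h
      · exact Or.inl ((map_eq_bot_iff_of_injective _ U.subtype_injective).1 h)
      · right
        refine eq_top_iff.2 fun v _ => ?_
        have h1 : (v : G) ∈ T.map U.subtype := h.symm ▸ v.2
        obtain ⟨v', hv', e⟩ := h1
        exact (Subtype.ext e : v' = v) ▸ hv')
    x' (Subtype.ext (by simpa using hxp)) hax hclA
  set Pa := P.map (MulAut.conj a).toMonoidHom with hPa
  set C₁ := U ⊓ centralizer (P : Set G) with hC₁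
  set C₂ := U ⊓ centralizer (Pa : Set G) with hC₂
  have hc1 : Nat.card {v : U // act x' v = v} = Nat.card C₁ := by
    refine Nat.card_congr ⟨fun v => ⟨v.1.1, v.1.2, ?_⟩, fun c => ⟨⟨c.1, c.2.1⟩, Subtype.ext ?_⟩,
      fun v => rfl, fun c => rfl⟩
    · show (v.1 : G) ∈ centralizer (P : Set G)
      rw [hPx, zpowers_eq_closure, centralizer_closure, mem_centralizer_singleton_iff]
      exact (mul_inv_eq_iff_eq_mul.1 (congrArg Subtype.val v.2 : x * (v.1 : G) * x⁻¹ = v.1)).symm
    · show x * (c : G) * x⁻¹ = c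
      rw [mem_centralizer_iff.1 c.2.2 x hxP, mul_inv_cancel_right]
  have hc2 : Nat.card C₂ ≤ Nat.card C₁ := by
    have h1 : C₂ ≤ C₁.map (MulAut.conj a).toMonoidHom := by
      intro v hv
      refine ⟨a⁻¹ * v * a, ⟨?_, mem_centralizer_iff.2 fun y hy => ?_⟩, by
        show a * (a⁻¹ * v * a) * a⁻¹ = v; group⟩
      · simpa using (inferInstance : U.Normal).conj_mem v hv.1 a⁻¹
      · have := mem_centralizer_iff.1 hv.2 _ (mem_map_of_mem (MulAut.conj a).toMonoidHom hy)
        calc y * (a⁻¹ * v * a) = a⁻¹ * ((a * y * a⁻¹) * v) * a := by group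
          _ = a⁻¹ * (v * (a * y * a⁻¹)) * a := by rw [show (a * y * a⁻¹) * v = v * (a * y * a⁻¹) from this]
          _ = a⁻¹ * v * a * y := by group
    exact (Nat.le_of_dvd Nat.card_pos (card_dvd_of_le h1)).trans (CfsgLib.Techniques.card_map_conj C₁ a).le
  -- every element of `U` factorises
  have hfac : ∀ u ∈ U, ∃ c ∈ C₁, ∃ d ∈ C₂, u = c * d := by
    intro u hu
    set B := P ⊔ P.map (MulAut.conj (u * a)).toMonoidHom with hB
    have hBU : B ⊔ U = ⊤ := by
      refine top_le_iff.1 (htop ▸ sup_le ?_ le_sup_right)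
      rw [hA]
      refine sup_le (le_sup_left.trans le_sup_left) ?_
      rintro _ ⟨y, hy, rfl⟩
      have h1 : u * a * y * (u * a)⁻¹ ∈ B ⊔ U := mem_sup_left (mem_sup_right ⟨y, hy, rfl⟩)
      show a * y * a⁻¹ ∈ B ⊔ U
      rw [show a * y * a⁻¹ = u⁻¹ * (u * a * y * (u * a)⁻¹) * u by group]
      exact mul_mem (mul_mem (mem_sup_right (inv_mem hu)) h1) (mem_sup_right hu)
    have hBinf : B ⊓ U = ⊥ := by
      have hn : (⊤ : Subgroup G) ≤ normalizer ((B ⊓ U : Subgroup G) : Set G) := by
        rw [← hBU, sup_le_iff]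
        exact ⟨fun b hb => inf_normalizer_le_normalizer_inf ⟨le_normalizer hb,
            by rw [normalizer_eq_top]; exact mem_top _⟩,
          fun v hv => centralizer_le_normalizer (_ : Set G)
            (mem_centralizer_iff.2 fun y hy => hUab y hy.2 v hv)⟩
      rcases hirr (B ⊓ U) inf_le_right (le_top.trans hn) with h | h
      · exact h
      · exact absurd (top_le_iff.1 (hBU ▸ sup_le le_rfl (h ▸ inf_le_left))) (hall u hu)
    set S := X ⊔ U with hS
    haveI hSn : S.Normal := normalizer_eq_top_iff.1 (top_le_iff.1 (htop ▸ sup_le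
      (fun b hb => by
        refine CfsgLib.Techniques.map_conj_eq_self_iff.1 ?_
        rw [hS, Subgroup.map_sup, CfsgLib.Techniques.map_conj_eq_self_iff.2 (hXn hb),
          CfsgLib.Techniques.map_conj_eq_self_iff.2 (by rw [normalizer_eq_top]; exact mem_top _)])
      (le_sup_right.trans le_normalizer)))
    have hXU' : X ⊓ U = ⊥ := le_bot_iff.1 ((inf_le_inf_right U hXA).trans hAU.le)
    have hcompl : ∀ (K : Subgroup G), K ⊓ U = ⊥ → K ≤ S → K ⊔ U = S → Nat.card K = U.relIndex S := by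
      intro K hK hKS hKU
      rw [← hKU, sup_comm K U, relIndex_sup_left, ← inf_relIndex_right, inf_comm, hK, relIndex_bot_left]
    set B' := B ⊓ S with hB'
    have hB'U : B' ⊔ U = S := by
      refine le_antisymm (sup_le inf_le_right le_sup_right) fun g hg => ?_
      have hg' : g ∈ B ⊔ U := hBU ▸ mem_top _
      obtain ⟨b, hb, v, hv, rfl⟩ := mem_sup_of_normal_right.1 hg'
      have hbS : b ∈ S := by simpa using mul_mem hg (inv_mem (mem_sup_right hv : v ∈ S))
      exact mul_mem (mem_sup_left ⟨hb, hbS⟩) (mem_sup_right hv)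
    have hB'card : Nat.card B' = Nat.card X := by
      rw [hcompl B' (le_bot_iff.1 ((inf_le_inf_right U inf_le_left).trans hBinf.le)) inf_le_right hB'U,
        hcompl X hXU' le_sup_left rfl]
    have hUs : IsPGroup s U := fun v => ⟨1, Subtype.ext (by rw [pow_one, coe_pow]; exact hUpow v.1 v.2)⟩
    obtain ⟨n, hn⟩ := IsPGroup.iff_card.1 hX
    obtain ⟨m, hm⟩ := IsPGroup.iff_card.1 hUs
    have hnd : ∀ (Y : Subgroup G), Y ≤ S → Nat.card Y = r ^ n → ¬ r ∣ (Y.subgroupOf S).index := by
      intro Y hY hYc h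
      have h1 : Nat.card Y * Y.relIndex S = r ^ n * s ^ m := by
        have e1 := relIndex_mul_relIndex ⊥ Y S bot_le hY
        have e2 := relIndex_mul_relIndex ⊥ U S bot_le le_sup_right
        rw [relIndex_bot_left, relIndex_bot_left] at e1 e2
        rw [e1, ← e2, ← hcompl X hXU' le_sup_left rfl, hn, hm, mul_comm]
      rw [hYc] at h1
      have h2 := Nat.eq_of_mul_eq_mul_left (pow_pos hr.out.pos n) h1
      rw [show (Y.subgroupOf S).index = Y.relIndex S from rfl, h2] at h
      exact hrs ((Nat.prime_dvd_prime_iff_eq hr.out hs.out).1 (hr.out.dvd_of_dvd_pow h))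
    have hB'r : IsPGroup r B' := IsPGroup.of_card (n := n) (by rw [hB'card, hn])
    obtain ⟨g, hg⟩ := MulAction.exists_smul_eq S
      ((hX.comap_subtype (K := S)).toSylow (hnd X le_sup_left hn))
      ((hB'r.comap_subtype (K := S)).toSylow (hnd B' inf_le_right (hB'card.trans hn)))
    obtain ⟨g, hgS⟩ := g
    obtain ⟨v, hv, y, hy, rfl⟩ : ∃ v ∈ U, ∃ y ∈ X, v * y = g := by
      have hgS' : g ∈ X ⊔ U := hgS
      obtain ⟨y, hy, v, hv, e⟩ := mem_sup_of_normal_right.1 hgS'
      exact ⟨y * v * y⁻¹, (inferInstance : U.Normal).conj_mem v hv y, y, hy, by rw [← e]; group⟩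
    have hB'X : B' ≤ X.map (MulAut.conj v).toMonoidHom := by
      intro b hb
      have hbS : b ∈ S := (mem_inf.1 hb).2
      have h1 : (⟨b, hbS⟩ : S) ∈ B'.subgroupOf S := mem_subgroupOf.2 hb
      have h2 := congrArg (fun T : Sylow r S => (T : Subgroup S)) hg
      simp only [Sylow.coe_subgroup_smul] at h2
      have h2' : (X.comap S.subtype).map
          (MulDistribMulAction.toMonoidEnd (MulAut S) S (MulAut.conj ⟨v * y, hgS⟩)) =
          B'.subgroupOf S := h2
      rw [← h2'] at h1
      obtain ⟨t, ht, e⟩ := h1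
      refine ⟨y * t * y⁻¹, X.mul_mem (X.mul_mem hy ht) (X.inv_mem hy), ?_⟩
      show v * (y * (t : G) * y⁻¹) * v⁻¹ = b
      have h3 : (v * y) * (t : G) * (v * y)⁻¹ = b := congrArg Subtype.val e
      rw [← h3]
      group
    have hB'eq : B' = X.map (MulAut.conj v).toMonoidHom :=
      eq_of_le_of_card_ge hB'X (by rw [CfsgLib.Techniques.card_map_conj, hB'card])
    have hBA : B ≤ A.map (MulAut.conj v).toMonoidHom := by
      intro b hb
      have h1 : b ∈ normalizer (B' : Set G) := inf_normalizer_le_normalizer_inf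
        ⟨le_normalizer hb, by rw [normalizer_eq_top]; exact mem_top _⟩
      refine ⟨v⁻¹ * b * v, hNX ?_, by show v * (v⁻¹ * b * v) * v⁻¹ = b; group⟩
      rw [hB'eq] at h1
      refine CfsgLib.Techniques.map_conj_eq_self_iff.1 ?_
      have h2 := CfsgLib.Techniques.map_conj_eq_self_iff.2 h1
      rw [CfsgLib.Techniques.map_conj_mul, CfsgLib.Techniques.map_conj_mul, h2,
        ← CfsgLib.Techniques.map_conj_mul, inv_mul_cancel, CfsgLib.Techniques.map_conj_one]
    -- `P` and `Pᵃ` lie in the complement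
    have hv1 : v ∈ C₁ := ⟨hv, mem_centralizer_iff.2 fun y hy => by
      obtain ⟨z, hz, e⟩ := hBA (mem_sup_left hy)
      refine mem_centralizer_of_complement hAU hv (hPA hy) ?_
      rw [← show v * z * v⁻¹ = y from e, show v⁻¹ * (v * z * v⁻¹) * v = z by group]
      exact hz⟩
    refine ⟨v, hv1, v⁻¹ * u, ⟨U.mul_mem (U.inv_mem hv) hu, mem_centralizer_iff.2 ?_⟩, by group⟩
    rintro _ ⟨y, hy, rfl⟩
    obtain ⟨z, hz, e⟩ := hBA (mem_sup_right ⟨y, hy, rfl⟩)
    have hya : a * y * a⁻¹ ∈ A := mul_mem (mul_mem ha (hPA hy)) (inv_mem ha)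
    have h1 := mem_centralizer_of_complement hAU (U.mul_mem (U.inv_mem hu) hv : u⁻¹ * v ∈ U) hya (by
      have e' : v * z * v⁻¹ = u * a * y * (u * a)⁻¹ := e
      have : (u⁻¹ * v)⁻¹ * (a * y * a⁻¹) * (u⁻¹ * v) = z := by
        calc (u⁻¹ * v)⁻¹ * (a * y * a⁻¹) * (u⁻¹ * v) = v⁻¹ * (u * a * y * (u * a)⁻¹) * v := by group
          _ = z := by rw [← e']; group
      rw [this]; exact hz)
    show a * y * a⁻¹ * (v⁻¹ * u) = v⁻¹ * u * (a * y * a⁻¹)
    rw [show v⁻¹ * u = (u⁻¹ * v)⁻¹ by group]
    exact (Commute.inv_right (h1 : Commute (a * y * a⁻¹) (u⁻¹ * v))).eq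
  have hle : Nat.card U ≤ Nat.card C₁ * Nat.card C₂ := by
    rw [← Nat.card_prod]
    refine Nat.card_le_card_of_surjective (fun cd : C₁ × C₂ => (⟨cd.1 * cd.2, mul_mem cd.1.2.1 cd.2.2.1⟩ : U)) ?_
    intro u
    obtain ⟨c, hc, d, hd, e⟩ := hfac u u.2
    exact ⟨(⟨c, hc⟩, ⟨d, hd⟩), Subtype.ext e.symm⟩
  rw [hc1] at hlt
  exact absurd (hle.trans (Nat.mul_le_mul_left _ hc2)) (not_le.2 hlt)

/-- In a maximal `⟨P, Pᵃ⟩` a normal `r`-subgroup centralizes every `s`-subgroup normalized by it. -/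
theorem le_centralizer_of_maximal {A P : Subgroup G} {r s : ℕ} [hr : Fact r.Prime] [hs : Fact s.Prime]
    (hrs : r ≠ s) (h3 : 3 < p) (hP : Nat.card P = p) (hsolA : Group.IsSolvable A)
    {a : G} (ha : a ∈ A) (hA : A = P ⊔ P.map (MulAut.conj a).toMonoidHom)
    (hmax : ∀ B : Subgroup G, A ≤ B → Group.IsSolvable B →
      (∃ b ∈ B, B = P ⊔ P.map (MulAut.conj b).toMonoidHom) → B = A)
    {X : Subgroup G} (hXA : X ≤ A) (hXn : A ≤ normalizer (X : Set G)) (hX : IsPGroup r X) :
    ∀ (n : ℕ) (U : Subgroup G), Nat.card U = n → IsPGroup s U → A ≤ normalizer (U : Set G) →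
      U ≤ centralizer (X : Set G) := by
  intro n
  induction n using Nat.strong_induction_on with
  | _ n ih =>
  intro U hn hU hAU
  classical
  by_contra hno
  have hsub : ∀ V : Subgroup G, V ≤ U → V ≠ U → A ≤ normalizer (V : Set G) →
      V ≤ centralizer (X : Set G) := fun V hVU hne hAV => ih _
    (hn ▸ lt_of_le_of_ne (Nat.le_of_dvd Nat.card_pos (card_dvd_of_le hVU))
      fun e => hne (eq_of_le_of_card_ge hVU e.ge)) V rfl (hU.to_le hVU) hAV
  have hUA : ¬ U ≤ A := by
    intro hle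
    apply hno
    intro u hu
    refine mem_centralizer_iff.2 fun y hy => commutatorElement_eq_one_iff_mul_comm.1 ?_
    have h1 : ⁅y, u⁆ ∈ X ⊓ U := by
      constructor
      · rw [commutatorElement_def, mul_assoc, mul_assoc]
        exact X.mul_mem hy (by simpa [mul_assoc] using (mem_normalizer_iff.1 (hXn (hle hu)) y⁻¹).1 (X.inv_mem hy))
      · rw [commutatorElement_def]
        exact U.mul_mem ((mem_normalizer_iff.1 (hAU (hXA hy)) u).1 hu) (U.inv_mem hu)
    rw [disjoint_iff.1 (IsPGroup.disjoint_of_ne r s hrs X U hX hU), mem_bot] at h1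
    exact h1
  haveI : Nontrivial U := (nontrivial_iff_ne_bot U).2 fun e => hno (e ▸ bot_le)
  have hsolU : Group.IsSolvable U := by haveI := hU.isNilpotent; infer_instance
  set K := A ⊔ U with hK
  have hKsol : Group.IsSolvable K := by
    rw [hK, sup_comm]
    haveI := hsolU; haveI := hsolA
    exact CfsgLib.Structure.isSolvable_sup_of_le_normalizer hAU
  set F := (frattini U).map U.subtype with hF
  have hAF : A ≤ normalizer (F : Set G) :=
    hAU.trans (CfsgLib.Structure.normalizer_le_normalizer_map_subtype U (frattini U))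
  have hUF : U ≤ normalizer (F : Set G) :=
    le_normalizer.trans (CfsgLib.Structure.normalizer_le_normalizer_map_subtype U (frattini U))
  have hFU : F ≤ U := map_subtype_le _
  have hnongen : ∀ V : Subgroup G, V ≤ U → U ≤ V ⊔ F → V = U := by
    intro V hV hle
    have h1 : V.subgroupOf U ⊔ frattini U = ⊤ := by
      refine map_injective U.subtype_injective ?_
      rw [Subgroup.map_sup, map_subgroupOf_eq_of_le hV, ← MonoidHom.range_eq_map, range_subtype]
      exact le_antisymm (sup_le hV hFU) hle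
    exact le_antisymm hV (subgroupOf_eq_top.1 (frattini_nongenerating h1))
  haveI hFn : (F.subgroupOf K).Normal := normal_subgroupOf_of_le_normalizer (sup_le hAF hUF)
  set π := QuotientGroup.mk' (F.subgroupOf K) with hπ
  set A' := (A.subgroupOf K).map π with hA'
  set U' := (U.subgroupOf K).map π with hU'
  have hAK : A ≤ K := le_sup_left
  have hUK : U ≤ K := le_sup_right
  haveI hUn : (U.subgroupOf K).Normal :=
    normal_subgroupOf_of_le_normalizer (sup_le hAU le_normalizer)
  haveI : U'.Normal := hUn.map π (QuotientGroup.mk'_surjective _)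
  have hker : ∀ y : K, π y = 1 ↔ (y : G) ∈ F := fun y =>
    (QuotientGroup.eq_one_iff y).trans mem_subgroupOf
  have hmapeq : ∀ (V : Subgroup G) (y : K), π y ∈ (V.subgroupOf K).map π →
      ∃ v ∈ V, ∃ f ∈ F, (y : G) = v * f := by
    rintro V y ⟨w, hw, e⟩
    refine ⟨w, hw, (w : G)⁻¹ * y, ?_, by group⟩
    have h1 : π (w⁻¹ * y) = 1 := by rw [map_mul, map_inv, e, inv_mul_cancel]
    exact (hker _).1 h1
  have htop : A' ⊔ U' = ⊤ := by
    rw [hA', hU', ← Subgroup.map_sup, ← subgroupOf_sup hAK hUK, ← hK, subgroupOf_self,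
      map_top_of_surjective _ (QuotientGroup.mk'_surjective _)]
  -- pull back the invariant subgroups of the quotient
  have hirr : ∀ T : Subgroup (K ⧸ F.subgroupOf K), T ≤ U' → A' ≤ normalizer (T : Set (K ⧸ F.subgroupOf K)) →
      T = ⊥ ∨ T = U' := by
    intro T hTU hAT
    set V := (T.comap π).map K.subtype with hV
    have hVU : V ≤ U := by
      rintro _ ⟨y, hy, rfl⟩
      obtain ⟨v, hv, f, hf, e⟩ := hmapeq U y (hTU hy)
      show (y : G) ∈ U
      rw [e]; exact U.mul_mem hv (hFU hf)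
    have hFV : F ≤ V := fun f hf => ⟨⟨f, hUK (hFU hf)⟩, by
      show π ⟨f, hUK (hFU hf)⟩ ∈ T
      rw [(hker _).2 hf]; exact T.one_mem, rfl⟩
    have hAV : A ≤ normalizer (V : Set G) := by
      intro b hb
      refine CfsgLib.Techniques.map_conj_eq_self_iff.1 (eq_of_le_of_card_ge ?_ (CfsgLib.Techniques.card_map_conj _ b).ge)
      rintro _ ⟨_, ⟨y, hy, rfl⟩, rfl⟩
      refine ⟨⟨b, hAK hb⟩ * y * ⟨b, hAK hb⟩⁻¹, ?_, rfl⟩
      show π _ ∈ T
      rw [map_mul, map_mul, map_inv]
      exact (mem_normalizer_iff.1 (hAT (mem_map_of_mem π (show (⟨b, hAK hb⟩ : K) ∈ A.subgroupOf K from hb))) _).1 hy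
    by_cases hVeq : V = U
    · right
      refine le_antisymm hTU ?_
      rintro _ ⟨y, hy, rfl⟩
      have h1 : (y : G) ∈ V := hVeq.symm ▸ (hy : (y : G) ∈ U)
      obtain ⟨y', hy', e⟩ := h1
      exact (Subtype.ext e : y' = y) ▸ hy'
    · left
      refine (eq_bot_iff_forall _).2 fun t ht => ?_
      obtain ⟨y, rfl⟩ := QuotientGroup.mk'_surjective (F.subgroupOf K) t
      have hVc := hsub V hVU hVeq hAV
      have hyV : (y : G) ∈ V := ⟨y, ht, rfl⟩
      rw [hker]
      -- `U/F = [U/F, X]`, so the centralised `V/F` is trivial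
      set X' := (X.subgroupOf K).map π with hX'
      have hX'n : X' ≤ normalizer (U' : Set (K ⧸ F.subgroupOf K)) := by
        rw [normalizer_eq_top]; exact le_top
      haveI hab : IsMulCommutative U' := by
        refine ⟨⟨fun b c => Subtype.ext (commutatorElement_eq_one_iff_mul_comm.1 ?_)⟩⟩
        obtain ⟨b', hb', eb⟩ := b.2
        obtain ⟨c', hc', ec⟩ := c.2
        rw [← eb, ← ec, ← map_commutatorElement, hker]
        refine ⟨⁅⟨b', hb'⟩, ⟨c', hc'⟩⁆, CfsgLib.PGroup.commutator_le_frattini hU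
          (commutator_mem_commutator (mem_top _) (mem_top _)), rfl⟩
      have hcard1 : Nat.card X' ∣ Nat.card X := (card_map_dvd _ _).trans
        (Nat.card_congr (subgroupOfEquivOfLe (hXA.trans hAK)).toEquiv).dvd
      have hcard2 : Nat.card U' ∣ Nat.card U := (card_map_dvd _ _).trans
        (Nat.card_congr (subgroupOfEquivOfLe hUK).toEquiv).dvd
      obtain ⟨i, hi⟩ := IsPGroup.iff_card.1 hX
      obtain ⟨j, hj⟩ := IsPGroup.iff_card.1 hU
      have hcop : (Nat.card X').Coprime (Nat.card U') := by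
        refine Nat.Coprime.coprime_dvd_left hcard1 (Nat.Coprime.coprime_dvd_right hcard2 ?_)
        rw [hi, hj]
        exact Nat.Coprime.pow _ _ ((Nat.coprime_primes hr.out hs.out).2 hrs)
      have hinf := CfsgLib.Coprime.commutator_inf_centralizer_eq_bot X' U' hX'n hcop
      have hcomm : U' ≤ ⁅U', X'⁆ := by
        -- `[U, X] = U`
        have hUX : ⁅U, X⁆ = U := by
          by_contra hne
          have hle : ⁅U, X⁆ ≤ U := CfsgLib.Coprime.commutator_le_of_normalizes (hXA.trans hAU)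
          have hc := hsub _ hle hne (fun b hb => CfsgLib.Techniques.map_conj_eq_self_iff.1 (by
            rw [map_commutator, CfsgLib.Techniques.map_conj_eq_self_iff.2 (hAU hb),
              CfsgLib.Techniques.map_conj_eq_self_iff.2 (hXn hb)]))
          have h1 : ⁅⁅U, X⁆, X⁆ = ⊥ := commutator_eq_bot_iff_le_centralizer.2 hc
          have hcop' : (Nat.card X).Coprime (Nat.card U) := by
            rw [hi, hj]; exact Nat.Coprime.pow _ _ ((Nat.coprime_primes hr.out hs.out).2 hrs)
          rw [CfsgLib.Coprime.commutator_commutator_eq X U (hXA.trans hAU) hcop' (Or.inr hsolU)] at h1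
          exact hno (commutator_eq_bot_iff_le_centralizer.1 h1)
        refine le_of_eq ?_
        rw [hU', hX', ← map_commutator]
        congr 1
        refine map_injective K.subtype_injective ?_
        rw [map_commutator, map_subgroupOf_eq_of_le hUK, map_subgroupOf_eq_of_le (hXA.trans hAK), hUX]
      have h2 : π y ∈ ⁅U', X'⁆ ⊓ centralizer (X' : Set (K ⧸ F.subgroupOf K)) := by
        refine ⟨hcomm (mem_map_of_mem π (show y ∈ U.subgroupOf K from hVU hyV)),
          mem_centralizer_iff.2 ?_⟩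
        rintro _ ⟨x, hx, rfl⟩
        rw [← map_mul, ← map_mul]
        congr 1
        exact Subtype.ext (mem_centralizer_iff.1 (hVc hyV) x hx)
      rw [hinf, mem_bot, hker] at h2
      exact h2
  have hAU' : A' ⊓ U' = ⊥ := by
    rcases hirr (A' ⊓ U') inf_le_right (fun b hb => inf_normalizer_le_normalizer_inf
      ⟨le_normalizer hb, by rw [normalizer_eq_top]; exact mem_top _⟩) with h | h
    · exact h
    · exfalso
      refine hUA (le_of_eq_of_le (hnongen (A ⊓ U) inf_le_right fun u hu => ?_).symm inf_le_left)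
      have h1 : π ⟨u, hUK hu⟩ ∈ A' := (h ▸ inf_le_left : U' ≤ A')
        (mem_map_of_mem π (show (⟨u, hUK hu⟩ : K) ∈ U.subgroupOf K from hu))
      obtain ⟨b, hb, f, hf, e⟩ := hmapeq A _ h1
      have hbU : b ∈ U := by
        have : b = u * f⁻¹ := by rw [show u = b * f from e, mul_inv_cancel_right]
        rw [this]; exact U.mul_mem hu (U.inv_mem (hFU hf))
      rw [show u = b * f from e]
      exact mul_mem (mem_sup_left ⟨hb, hbU⟩) (mem_sup_right hf)
  haveI : Group.IsSolvable K := hKsol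
  set P' := (P.subgroupOf K).map π with hP'
  have hPA : P ≤ A := hA ▸ le_sup_left
  have hPK : P ≤ K := hPA.trans hAK
  set a' := π ⟨a, hAK ha⟩ with ha'
  have hconjK : ∀ (b : G) (hb : b ∈ K), (P'.map (MulAut.conj (π ⟨b, hb⟩)).toMonoidHom) =
      ((P.map (MulAut.conj b).toMonoidHom).subgroupOf K).map π := by
    intro b hb
    have e : (P.map (MulAut.conj b).toMonoidHom).subgroupOf K =
        (P.subgroupOf K).map (MulAut.conj (⟨b, hb⟩ : K)).toMonoidHom := by
      refine map_injective K.subtype_injective ?_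
      rw [map_subgroupOf_eq_of_le (by
        rintro _ ⟨y, hy, rfl⟩
        exact K.mul_mem (K.mul_mem hb (hPK hy)) (K.inv_mem hb))]
      conv_lhs => rw [← map_subgroupOf_eq_of_le hPK]
      rw [Subgroup.map_map, Subgroup.map_map]
      rfl
    rw [e, hP', Subgroup.map_map, Subgroup.map_map]
    congr 1
  have hAgen : A' = P' ⊔ P'.map (MulAut.conj a').toMonoidHom := by
    have e : A.subgroupOf K = P.subgroupOf K ⊔ (P.map (MulAut.conj a).toMonoidHom).subgroupOf K := by
      rw [← subgroupOf_sup hPK (by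
        rintro _ ⟨y, hy, rfl⟩
        exact K.mul_mem (K.mul_mem (hAK ha) (hPK hy)) (K.inv_mem (hAK ha))), ← hA]
    rw [hA', e, Subgroup.map_sup, ha', hconjK a (hAK ha)]
  have hP'card : Nat.card P' = p := by
    have h1 : Nat.card P' ∣ p := by
      rw [← hP, ← Nat.card_congr (subgroupOfEquivOfLe hPK).toEquiv]
      exact card_map_dvd _ _
    rcases (Nat.dvd_prime hp.out).1 h1 with h2 | h2
    · exfalso
      have hb : P' = ⊥ := eq_bot_of_card_eq _ h2
      rw [hb, Subgroup.map_bot, sup_bot_eq] at hAgen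
      rw [hAgen, bot_sup_eq] at htop
      -- then `K = U F = U`
      refine hUA ?_
      have hAU2 : A ≤ U := fun b hb' => by
        have h3 : π ⟨b, hAK hb'⟩ ∈ A' := mem_map_of_mem π (show (⟨b, hAK hb'⟩ : K) ∈ A.subgroupOf K from hb')
        rw [hAgen, mem_bot, hker] at h3
        exact hFU h3
      intro u hu
      exfalso
      refine hno fun u' hu' => mem_centralizer_iff.2 fun y hy => ?_
      have hy1 : y ∈ X ⊓ U := ⟨hy, hAU2 (hXA hy)⟩
      rw [disjoint_iff.1 (IsPGroup.disjoint_of_ne r s hrs X U hX hU), mem_bot] at hy1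
      rw [hy1, one_mul, mul_one]
    · exact h2
  have hU'ab : ∀ b ∈ U', ∀ c ∈ U', b * c = c * b := by
    rintro _ ⟨b', hb', rfl⟩ _ ⟨c', hc', rfl⟩
    refine commutatorElement_eq_one_iff_mul_comm.1 ?_
    rw [← map_commutatorElement, hker]
    exact ⟨⁅⟨b', hb'⟩, ⟨c', hc'⟩⁆, CfsgLib.PGroup.commutator_le_frattini hU
      (commutator_mem_commutator (mem_top _) (mem_top _)), rfl⟩
  have hU'pow : ∀ b ∈ U', b ^ s = 1 := by
    rintro _ ⟨b', hb', rfl⟩
    rw [← map_pow, hker]
    have h1 := (CfsgLib.LocalEven.Involved.isElementaryAbelian_quotient_frattini hU).2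
      (QuotientGroup.mk (⟨b', hb'⟩ : U))
    rw [← QuotientGroup.mk_pow, QuotientGroup.eq_one_iff] at h1
    exact ⟨_, h1, rfl⟩
  have hX'r : IsPGroup r ((X.subgroupOf K).map π) := (hX.comap_subtype (K := K)).map π
  have hXU' : ¬ U' ≤ centralizer (((X.subgroupOf K).map π : Subgroup (K ⧸ F.subgroupOf K)) : Set _) := by
    intro hle
    refine hno ?_
    have hcop' : (Nat.card X).Coprime (Nat.card U) := by
      obtain ⟨i, hi⟩ := IsPGroup.iff_card.1 hX
      obtain ⟨j, hj⟩ := IsPGroup.iff_card.1 hU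
      rw [hi, hj]; exact Nat.Coprime.pow _ _ ((Nat.coprime_primes hr.out hs.out).2 hrs)
    have hUX : ⁅U, X⁆ ≤ F := by
      rw [commutator_le]
      intro u hu y hy
      have h1 := mem_centralizer_iff.1 (hle (mem_map_of_mem π (show (⟨u, hUK hu⟩ : K) ∈ U.subgroupOf K from hu)))
        _ (mem_map_of_mem π (show (⟨y, hAK (hXA hy)⟩ : K) ∈ X.subgroupOf K from hy))
      have h2 : π ⁅(⟨u, hUK hu⟩ : K), ⟨y, hAK (hXA hy)⟩⁆ = 1 := by
        rw [map_commutatorElement, commutatorElement_eq_one_iff_mul_comm]; exact h1.symm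
      exact (hker _).1 h2
    have hFne : F ≠ U := fun e => by
      have h1 := hnongen ⊥ bot_le (by rw [bot_sup_eq, e])
      exact hno (h1 ▸ bot_le)
    have hle' : ⁅U, X⁆ ≤ centralizer (X : Set G) := hUX.trans (hsub F hFU hFne hAF)
    have h1 : ⁅⁅U, X⁆, X⁆ = ⊥ := commutator_eq_bot_iff_le_centralizer.2 hle'
    rw [CfsgLib.Coprime.commutator_commutator_eq X U (hXA.trans hAU) hcop' (Or.inr hsolU)] at h1
    exact commutator_eq_bot_iff_le_centralizer.1 h1
  have hsolA' : Group.IsSolvable A' := inferInstance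
  obtain ⟨ub, ⟨u, hu, rfl⟩, hgen⟩ := exists_generating (A := A') (U := U')
    (X := (X.subgroupOf K).map π) (P := P') hrs h3 hsolA' htop hAU' hU'ab hU'pow hirr
    (map_mono fun y hy => hXA hy) (by
      rintro _ ⟨b, hb, rfl⟩
      exact le_normalizer_map π (mem_map_of_mem π (show b ∈ normalizer ((X.subgroupOf K : Subgroup K) : Set K) from by
        rw [← subgroupOf_normalizer_eq (hXA.trans hAK)]; exact hXn hb)))
    hX'r hXU' hP'card (a := a') (mem_map_of_mem π (show (⟨a, hAK ha⟩ : K) ∈ A.subgroupOf K from ha)) hAgen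
  set b : G := (u : G) * a with hb
  have hbK : b ∈ K := K.mul_mem u.2 (hAK ha)
  set B := P ⊔ P.map (MulAut.conj b).toMonoidHom with hB
  have hBK : B ≤ K := sup_le hPK (by
    rintro _ ⟨y, hy, rfl⟩
    exact K.mul_mem (K.mul_mem hbK (hPK hy)) (K.inv_mem hbK))
  have hBF : (B.subgroupOf K).map π = ⊤ := by
    rw [← hgen, ha', ← map_mul, show u * (⟨a, hAK ha⟩ : K) = ⟨b, hbK⟩ from rfl, hconjK b hbK, hP',
      ← Subgroup.map_sup, ← subgroupOf_sup hPK (le_sup_right.trans hBK)]
  have hUB : U ≤ B := by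
    refine le_of_eq_of_le (hnongen (B ⊓ U) inf_le_right fun v hv => ?_).symm inf_le_left
    obtain ⟨c, hc, f, hf, e⟩ := hmapeq B ⟨v, hUK hv⟩ (hBF ▸ mem_top _)
    have hcU : c ∈ U := by
      have : c = v * f⁻¹ := by rw [show v = c * f from e, mul_inv_cancel_right]
      rw [this]; exact U.mul_mem hv (U.inv_mem (hFU hf))
    rw [show v = c * f from e]
    exact mul_mem (mem_sup_left ⟨hc, hcU⟩) (mem_sup_right hf)
  have hBeq : B = K := by
    refine le_antisymm hBK fun y hy => ?_
    obtain ⟨c, hc, f, hf, e⟩ := hmapeq B ⟨y, hy⟩ (hBF ▸ mem_top _)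
    rw [show y = c * f from e]
    exact B.mul_mem hc (hUB (hFU hf))
  have := hmax K hAK hKsol ⟨b, hbK, hBeq.symm⟩
  exact hUA (this ▸ hUK)

end CfsgLib.RepFix
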